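import Groth.Agent.MiscA.LinearType
import Mathlib.RingTheory.Localization.Away.Basic

set_option autoImplicit false
universe u v w

namespace Groth.Agent.MiscA.AffineBlowup

open Groth.Agent.MiscA.LinearType

variable {A : Type u} [CommRing A] {n : ℕ}

/-- `X_0 ↦ 1`, `X_{i+1} ↦ T_i` -/
noncomputable def dehom : MvPolynomial (Fin (n + 1)) A →ₐ[A] MvPolynomial (Fin n) A :=
  MvPolynomial.aeval (Fin.cons 1 (fun i => MvPolynomial.X i) : Fin (n + 1) → MvPolynomial (Fin n) A)

variable {L : Type w} [CommRing L] [Algebra A L]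

lemma exists_hom (a : Fin (n + 1) → A) (t : Fin n → L)
    (ht : ∀ i, algebraMap A L (a 0) * t i = algebraMap A L (a i.succ)) (f : MvPolynomial (Fin n) A) :
    ∃ (d : ℕ) (F : MvPolynomial (Fin (n + 1)) A), dehom F = f ∧
      Polynomial.map (algebraMap A L) (phi a F) =
        Polynomial.C (algebraMap A L (a 0) ^ d * MvPolynomial.aeval t f) * Polynomial.X ^ d := by
  induction f using MvPolynomial.induction_on with
  | C r =>
    refine ⟨0, MvPolynomial.C r, ?_, ?_⟩
    · simp [dehom, MvPolynomial.algHom_C]
    · simp [phi, MvPolynomial.algHom_C]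
  | add p q hp hq =>
    obtain ⟨d, F, hF1, hF2⟩ := hp
    obtain ⟨e, G, hG1, hG2⟩ := hq
    refine ⟨d + e, F * MvPolynomial.X 0 ^ e + G * MvPolynomial.X 0 ^ d, ?_, ?_⟩
    · have : dehom (MvPolynomial.X 0 : MvPolynomial (Fin (n + 1)) A) = 1 := by simp [dehom]
      rw [map_add, map_mul, map_mul, map_pow, map_pow, this, hF1, hG1]; simp
    · have : phi a (MvPolynomial.X 0 : MvPolynomial (Fin (n + 1)) A) =
        Polynomial.C (a 0) * Polynomial.X := by simp [phi]
      rw [map_add, map_mul, map_mul, map_pow, map_pow, this, Polynomial.map_add, Polynomial.map_mul,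
        Polynomial.map_mul, hF2, hG2]
      simp only [Polynomial.map_pow, Polynomial.map_mul, Polynomial.map_C, Polynomial.map_X, map_add,
        map_mul, map_pow]
      ring
  | mul_X p i hp =>
    obtain ⟨d, F, hF1, hF2⟩ := hp
    refine ⟨d + 1, F * MvPolynomial.X i.succ, ?_, ?_⟩
    · rw [map_mul, hF1]; simp [dehom]
    · have h : Polynomial.C (algebraMap A L (a i.succ)) =
        Polynomial.C (algebraMap A L (a 0)) * Polynomial.C (t i) := by rw [← map_mul, ht]
      rw [map_mul, Polynomial.map_mul, hF2]
      simp only [phi, MvPolynomial.aeval_X, Polynomial.map_mul, Polynomial.map_C, Polynomial.map_X,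
        map_mul, map_pow, h]
      ring

lemma dehom_J (a : Fin (n + 1) → A) (F : MvPolynomial (Fin (n + 1)) A) (hF : F ∈ J a) :
    dehom F ∈ Ideal.span (Set.range fun i : Fin n =>
        MvPolynomial.C (a 0) * MvPolynomial.X i - MvPolynomial.C (a i.succ)) := by
  set K := Ideal.span (Set.range fun i : Fin n =>
        MvPolynomial.C (a 0) * MvPolynomial.X i - MvPolynomial.C (a i.succ)) with hK
  have h : J a ≤ Ideal.comap (dehom (A := A) (n := n)) K := by
    unfold J
    rw [Ideal.span_le]
    rintro q ⟨i, j, rfl⟩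
    simp only [SetLike.mem_coe, Ideal.mem_comap]
    -- every `a_i` is congruent to `a_0 T_i`
    have hT : ∀ i : Fin (n + 1), MvPolynomial.C (a 0) * dehom (MvPolynomial.X i) -
        MvPolynomial.C (a i) ∈ K := by
      intro i
      refine Fin.cases ?_ (fun i => ?_) i
      · simp [dehom]
      · have : dehom (MvPolynomial.X i.succ : MvPolynomial (Fin (n + 1)) A) = MvPolynomial.X i := by
          simp [dehom]
        rw [this]
        exact Ideal.subset_span ⟨i, rfl⟩
    have h1 : dehom (MvPolynomial.C (a i) * MvPolynomial.X j - MvPolynomial.C (a j) * MvPolynomial.X i) =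
        dehom (MvPolynomial.X i) * (MvPolynomial.C (a 0) * dehom (MvPolynomial.X j) -
        MvPolynomial.C (a j)) - dehom (MvPolynomial.X j) *
        (MvPolynomial.C (a 0) * dehom (MvPolynomial.X i) - MvPolynomial.C (a i)) := by
      have hC : ∀ r : A, dehom (MvPolynomial.C r : MvPolynomial (Fin (n + 1)) A) = MvPolynomial.C r := by
        intro r; simp [dehom, MvPolynomial.algHom_C]
      simp only [map_sub, map_mul, hC]
      ring
    rw [h1]
    exact sub_mem (Ideal.mul_mem_left _ _ (hT j)) (Ideal.mul_mem_left _ _ (hT i))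
  exact h hF

theorem ker_le (a : Fin (n + 1) → A) (t : Fin n → L)
    (ht : ∀ i, algebraMap A L (a 0) * t i = algebraMap A L (a i.succ))
    (hL : Function.Injective (algebraMap A L)) (hlin : LinType a) :
    RingHom.ker (MvPolynomial.aeval (R := A) t) ≤
      Ideal.span (Set.range fun i : Fin n =>
        MvPolynomial.C (a 0) * MvPolynomial.X i - MvPolynomial.C (a i.succ)) := by
  intro f hf
  rw [RingHom.mem_ker] at hf
  obtain ⟨d, F, h1, h2⟩ := exists_hom a t ht f
  rw [hf, mul_zero, map_zero, zero_mul] at h2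
  have h3 : phi a F = 0 := by
    apply Polynomial.map_injective _ hL
    rw [h2, Polynomial.map_zero]
  rw [← h1]
  exact dehom_J a F (hlin h3)

end Groth.Agent.MiscA.AffineBlowup
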