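import Groth.Agent.VarietyA.GeomIrrGen
import Groth.Agent.MiscA.CurvePlaces
import Mathlib.FieldTheory.Perfect
import Mathlib.FieldTheory.Separable

/-!
# Constants of the function field of a geometrically irreducible scheme

If `f : C ⟶ Spec k` is geometrically irreducible, `C` integral and `k` perfect, then `k` is algebraically closed
in the function field of `C`.
-/

set_option autoImplicit false
universe u
open AlgebraicGeometry CategoryTheory CategoryTheory.Limits

namespace Groth.Agent.MiscA.CurveConst

variable (k : Type u) [Field k] {C : Scheme.{u}} [IsIntegral C] (f : C ⟶ Spec (CommRingCat.of k))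

/-- An element of the function field of a geometrically irreducible integral `k`-scheme which is separable over
`k` lies in `k`. -/
theorem mem_range_of_isSeparable [GeometricallyIrreducible f] [Algebra k C.functionField]
    (h : CurvePlaces.genericPt C ≫ f = Spec.map (CommRingCat.ofHom (algebraMap k C.functionField)))
    (x : C.functionField) (hx : IsSeparable k x) : x ∈ (algebraMap k C.functionField).range := by
  let ρ : C.functionField →+* C.residueField (genericPoint C) := (C.residue (genericPoint C)).hom
  have hρ : Function.Injective ρ := ρ.injective
  let alg : Algebra k (C.residueField (genericPoint C)) := (ρ.comp (algebraMap k C.functionField)).toAlgebra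
  have hcomp : ρ.comp (algebraMap k C.functionField) = algebraMap k (C.residueField (genericPoint C)) := rfl
  let ρ' : C.functionField →ₐ[k] C.residueField (genericPoint C) :=
    { ρ with commutes' := fun c => rfl }
  have h' : C.fromSpecResidueField (genericPoint C) ≫ f =
      Spec.map (CommRingCat.ofHom (algebraMap k (C.residueField (genericPoint C)))) := by
    rw [Scheme.fromSpecResidueField, Category.assoc]
    have h1 : C.fromSpecStalk (genericPoint C) ≫ f =
      Spec.map (CommRingCat.ofHom (algebraMap k C.functionField)) := h
    rw [h1, ← Spec.map_comp]
    rfl
  have hsep : IsSeparable k (ρ x) := by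
    have : IsSeparable k (ρ' x) := by
      rw [IsSeparable, minpoly.algHom_eq ρ' hρ]
      exact hx
    exact this
  have hirr : IrreducibleSpace ↥(pullback f (Spec.map (CommRingCat.ofHom
      (algebraMap k (IntermediateField.adjoin k {ρ x}))))) :=
    GeometricallyIrreducible.geometrically_irreducibleSpace _ _ _ (.of_hasPullback _ _)
  obtain ⟨c, hc⟩ := VarietyA.GeomIrr.mem_range_of_irreducibleSpace_bc k f h' (ρ x) hsep hirr
  exact ⟨c, hρ hc⟩

/-- The base field is algebraically closed in the function field of a geometrically irreducible integral scheme
over a perfect field. -/
theorem mem_range_of_isAlgebraic [PerfectField k] [GeometricallyIrreducible f] [Algebra k C.functionField]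
    (h : CurvePlaces.genericPt C ≫ f = Spec.map (CommRingCat.ofHom (algebraMap k C.functionField)))
    (x : C.functionField) (hx : IsAlgebraic k x) : x ∈ (algebraMap k C.functionField).range :=
  mem_range_of_isSeparable k f h x (PerfectField.separable_of_irreducible (minpoly.irreducible hx.isIntegral))

end Groth.Agent.MiscA.CurveConst
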