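import Groth.Agent.MiscA.DworkSeries
import Mathlib.Dynamics.PeriodicPts.Lemmas
import Mathlib.NumberTheory.Divisors
import Mathlib.SetTheory.Cardinal.Finite
import Mathlib.RingTheory.PowerSeries.WellKnown
import Mathlib.Data.Real.Basic

/-!
# Integrality of the Artin-Mazur zeta function

If `φ : E → E` has finitely many points of period `s` for every `s ≥ 1` then
`exp (∑ N_s X^s / s)` has integer coefficients.
-/

set_option autoImplicit false

namespace Groth.Agent.MiscA.DworkOrbit

open PowerSeries Groth.Agent.MiscA.DworkSeries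

section Approx

variable {K : Type*} [CommRing K] [IsDomain K] [CharZero K]

theorem unique_upto {T T' f g : K⟦X⟧} (hf : IsExpInt T f) (hg : IsExpInt T' g) (n : ℕ)
    (h : ∀ i ≤ n, coeff i T = coeff i T') : ∀ i ≤ n, coeff i f = coeff i g := by
  intro i
  induction i using Nat.strong_induction_on with
  | _ i ih =>
    intro hin
    rcases Nat.eq_zero_or_pos i with rfl | hi
    · rw [coeff_zero_eq_constantCoeff_apply, coeff_zero_eq_constantCoeff_apply, hf.1, hg.1]
    · have h1 := hf.recursion i
      have h2 := hg.recursion i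
      have h3 : (i : K) * coeff i f = (i : K) * coeff i g := by
        rw [h1, h2]
        refine Finset.sum_congr rfl fun j hj => ?_
        rw [Finset.mem_range] at hj
        rw [ih j hj (by omega), h (i - j) (by omega)]
      exact mul_left_cancel₀ (Nat.cast_ne_zero.2 hi.ne') h3

theorem exists_of_approx (T : K⟦X⟧)
    (h : ∀ n, ∃ T' f, IsExpInt T' f ∧ ∀ i ≤ n, coeff i T = coeff i T') : ∃ f, IsExpInt T f := by
  choose T' f' h1 h2 using h
  have h3 : ∀ n i, i ≤ n → coeff i (f' n) = coeff i (f' i) := by
    intro n i hi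
    refine unique_upto (h1 n) (h1 i) i (fun j hj => ?_) i le_rfl
    rw [← h2 n j (by omega), ← h2 i j hj]
  refine ⟨PowerSeries.mk fun n => coeff n (f' n), ?_, ?_⟩
  · rw [← coeff_zero_eq_constantCoeff_apply, coeff_mk, coeff_zero_eq_constantCoeff_apply, (h1 0).1]
  · ext n
    have h4 := congrArg (coeff n) (h1 n).2
    rw [coeff_theta, coeff_mul] at h4
    rw [coeff_theta, coeff_mk, h4, coeff_mul]
    refine Finset.sum_congr rfl fun ij hij => ?_
    rw [Finset.mem_antidiagonal] at hij
    rw [coeff_mk, h2 n ij.1 (by omega), h3 n ij.2 (by omega)]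

end Approx

/-- `X/(1-X)`. -/
noncomputable def geoT : ℤ⟦X⟧ := PowerSeries.mk fun n => if n = 0 then 0 else 1

/-- `1/(1-X)`. -/
noncomputable def geo : ℤ⟦X⟧ := PowerSeries.mk fun _ => 1

theorem isExpInt_geo : IsExpInt geoT geo := by
  refine ⟨by simp [geo, ← coeff_zero_eq_constantCoeff_apply], ?_⟩
  ext n
  rw [coeff_theta, coeff_mul, Finset.Nat.sum_antidiagonal_eq_sum_range_succ_mk]
  simp only [geo, geoT, coeff_mk, mul_one]
  rw [Finset.sum_range_succ']
  simp

section Orbit

variable {E : Type*} (φ : E → E)

theorem dvd_card_of_minimalPeriod_eq (d : ℕ) (hd : 0 < d) (S : Finset E)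
    (hS : ∀ x ∈ S, φ x ∈ S) (hp : ∀ x ∈ S, Function.minimalPeriod φ x = d) : d ∣ S.card := by
  classical
  induction hn : S.card using Nat.strong_induction_on generalizing S with
  | _ n ih =>
    rcases S.eq_empty_or_nonempty with rfl | ⟨x, hx⟩
    · simp at hn; rw [← hn]; exact dvd_zero _
    · set O : Finset E := (Finset.range d).image fun k => φ^[k] x with hO
      have hiter : ∀ k, φ^[k] x ∈ S := by
        intro k
        induction k with
        | zero => exact hx
        | succ k ihk => rw [Function.iterate_succ_apply']; exact hS _ ihk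
      have hOS : O ⊆ S := by
        intro y hy
        rw [hO, Finset.mem_image] at hy
        obtain ⟨k, _, rfl⟩ := hy
        exact hiter k
      have hOc : O.card = d := by
        rw [hO, Finset.card_image_of_injOn, Finset.card_range]
        intro a ha b hb hab
        have h1 := Function.iterate_injOn_Iio_minimalPeriod (f := φ) (x := x)
        rw [hp x hx] at h1
        exact h1 (by simpa using ha) (by simpa using hb) hab
      have hcard : S.card = (S \ O).card + d := by
        rw [← hOc, Finset.card_sdiff_add_card_eq_card hOS]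
      have hstable : ∀ y ∈ S \ O, φ y ∈ S \ O := by
        intro y hy
        rw [Finset.mem_sdiff] at hy ⊢
        refine ⟨hS y hy.1, fun hφ => hy.2 ?_⟩
        rw [hO, Finset.mem_image] at hφ ⊢
        obtain ⟨k, _, hk⟩ := hφ
        have hper : φ^[d] y = y := by
          have := Function.iterate_minimalPeriod (f := φ) (x := y)
          rwa [hp y hy.1] at this
        refine ⟨(d - 1 + k) % d, Finset.mem_range.2 (Nat.mod_lt _ hd), ?_⟩
        have h1 : φ^[d - 1 + k] x = y := by
          rw [Function.iterate_add_apply, hk, ← Function.iterate_succ_apply]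
          have : (d - 1).succ = d := by omega
          rw [this, hper]
        rw [← h1]
        have h2 := Function.iterate_mod_minimalPeriod_eq (f := φ) (x := x) (n := d - 1 + k)
        rw [hp x hx] at h2
        exact h2
      have hlt : (S \ O).card < n := by omega
      have h1 := ih _ hlt (S \ O) hstable (fun y hy => hp y (Finset.mem_sdiff.1 hy).1) rfl
      rw [← hn, hcard]
      exact dvd_add h1 dvd_rfl

theorem exists_zeta (hfin : ∀ s, 1 ≤ s → {x | φ^[s] x = x}.Finite) :
    ∃ Z : ℤ⟦X⟧, IsExpInt
      (PowerSeries.mk fun s => if s = 0 then 0 else (Set.ncard {x | φ^[s] x = x} : ℤ)) Z := by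
  classical
  -- points of exact period `d`
  set P : ℕ → Set E := fun d => {x | Function.minimalPeriod φ x = d} with hP
  have hPfin : ∀ d, 1 ≤ d → (P d).Finite := by
    intro d hd
    refine (hfin d hd).subset ?_
    intro x hx
    have := Function.iterate_minimalPeriod (f := φ) (x := x)
    rw [show Function.minimalPeriod φ x = d from hx] at this
    exact this
  have hdvd : ∀ d, 1 ≤ d → d ∣ (P d).ncard := by
    intro d hd
    rw [Set.ncard_eq_toFinset_card (P d) (hPfin d hd)]
    refine dvd_card_of_minimalPeriod_eq φ d hd _ ?_ ?_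
    · intro x hx
      rw [Set.Finite.mem_toFinset] at hx ⊢
      have hx' : Function.minimalPeriod φ x = d := hx
      have hper : x ∈ Function.periodicPts φ :=
        Function.minimalPeriod_pos_iff_mem_periodicPts.1 (by omega)
      exact (Function.minimalPeriod_apply hper).trans hx'
    · intro x hx
      rw [Set.Finite.mem_toFinset] at hx
      exact hx
  choose! B hB using hdvd
  have hN : ∀ s, 1 ≤ s → Set.ncard {x | φ^[s] x = x} = ∑ d ∈ s.divisors, (P d).ncard := by
    intro s hs
    rw [Set.ncard_eq_toFinset_card _ (hfin s hs)]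
    rw [Finset.card_eq_sum_card_fiberwise (f := Function.minimalPeriod φ) (t := s.divisors)]
    · refine Finset.sum_congr rfl fun d hd => ?_
      rw [Nat.mem_divisors] at hd
      have hd1 : 1 ≤ d := Nat.pos_of_dvd_of_pos hd.1 (by omega)
      rw [Set.ncard_eq_toFinset_card _ (hPfin d hd1)]
      congr 1
      ext x
      simp only [Finset.mem_filter, Set.Finite.mem_toFinset]
      constructor
      · exact fun h => h.2
      · intro h
        refine ⟨?_, h⟩
        have h1 : Function.minimalPeriod φ x ∣ s := by
          rw [show Function.minimalPeriod φ x = d from h]; exact hd.1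
        exact Function.isPeriodicPt_iff_minimalPeriod_dvd.2 h1
    · intro x hx
      simp only [Finset.mem_coe, Set.Finite.mem_toFinset] at hx
      simp only [Finset.mem_coe, Nat.mem_divisors]
      exact ⟨Function.isPeriodicPt_iff_minimalPeriod_dvd.1 hx, by omega⟩
  refine exists_of_approx _ fun n => ?_
  let T' : ℕ → ℤ⟦X⟧ := fun d => if hd : d = 0 then 0 else
    (B d : ℤ⟦X⟧) * ((d : ℤ⟦X⟧) * PowerSeries.expand d hd geoT)
  let f' : ℕ → ℤ⟦X⟧ := fun d => if hd : d = 0 then 1 else (PowerSeries.expand d hd geo) ^ (B d)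
  refine ⟨∑ d ∈ Finset.range (n + 1), T' d, ∏ d ∈ Finset.range (n + 1), f' d, ?_, ?_⟩
  · refine IsExpInt.prod _ fun d _ => ?_
    by_cases hd : d = 0
    · simp only [T', f', dif_pos hd]; exact IsExpInt.one
    · simp only [T', f', dif_neg hd]
      exact (isExpInt_geo.expand d hd).pow _
  · intro i hi
    rw [coeff_mk, map_sum]
    have hT' : ∀ d, coeff i (T' d) = if d ≠ 0 ∧ i ≠ 0 ∧ d ∣ i then (B d : ℤ) * d else 0 := by
      intro d
      by_cases hd : d = 0
      · simp [T', hd]
      · simp only [T', dif_neg hd]
        rw [← nsmul_eq_mul, ← nsmul_eq_mul, map_nsmul, map_nsmul]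
        by_cases hdi : d ∣ i
        · obtain ⟨m, rfl⟩ := hdi
          rw [coeff_expand_mul, geoT, coeff_mk]
          by_cases hm : m = 0
          · simp [hm]
          · simp [hm, hd]
        · rw [coeff_expand_of_not_dvd (h := hdi)]
          simp [hdi]
    rw [Finset.sum_congr rfl fun d _ => hT' d]
    by_cases hi0 : i = 0
    · simp [hi0]
    · rw [if_neg hi0, hN i (by omega)]
      push_cast
      rw [← Finset.sum_filter]
      refine Finset.sum_congr ?_ ?_
      · ext d
        simp only [Nat.mem_divisors, Finset.mem_filter, Finset.mem_range]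
        constructor
        · rintro ⟨h1, h2⟩
          refine ⟨?_, ?_, h2, h1⟩
          · have := Nat.le_of_dvd (by omega) h1; omega
          · rintro rfl; exact h2 (zero_dvd_iff.1 h1)
        · rintro ⟨_, _, h2, h1⟩; exact ⟨h1, h2⟩
      · intro d hd
        simp only [Finset.mem_filter] at hd
        rw [hB d (by omega)]
        push_cast; ring

end Orbit

/-- Growth of the coefficients. -/
theorem coeff_le_pow {T Z : ℤ⟦X⟧} (h : IsExpInt T Z) (R : ℝ)
    (hT0 : ∀ n, 0 ≤ coeff n T) (hT : ∀ n, 1 ≤ n → ((coeff n T : ℤ) : ℝ) ≤ R ^ n) (hR : 1 ≤ R) :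
    ∀ n, |((coeff n Z : ℤ) : ℝ)| ≤ R ^ n := by
  intro n
  induction n using Nat.strong_induction_on with
  | _ n ih =>
    rcases Nat.eq_zero_or_pos n with rfl | hn
    · rw [coeff_zero_eq_constantCoeff_apply, h.1]; simp
    · have h1 := congrArg (fun z : ℤ => (z : ℝ)) (h.recursion n)
      simp only [Int.cast_mul, Int.cast_natCast, Int.cast_sum] at h1
      have h2 : (n : ℝ) * |((coeff n Z : ℤ) : ℝ)| ≤ n * R ^ n := by
        have h5 : (n : ℝ) * |((coeff n Z : ℤ) : ℝ)| = |(n : ℝ) * ((coeff n Z : ℤ) : ℝ)| := by
          rw [abs_mul, abs_of_nonneg (Nat.cast_nonneg n : (0 : ℝ) ≤ n)]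
        rw [h5, h1]
        refine (Finset.abs_sum_le_sum_abs _ _).trans ?_
        have h3 : ∀ i ∈ Finset.range n,
            |((coeff (n - i) T : ℤ) : ℝ) * ((coeff i Z : ℤ) : ℝ)| ≤ R ^ n := by
          intro i hi
          rw [Finset.mem_range] at hi
          rw [abs_mul, abs_of_nonneg (Int.cast_nonneg (hT0 _))]
          have h4 : R ^ n = R ^ (n - i) * R ^ i := by rw [← pow_add]; congr 1; omega
          rw [h4]
          exact mul_le_mul (hT _ (by omega)) (ih i hi) (abs_nonneg _) (by positivity)
        refine (Finset.sum_le_sum h3).trans ?_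
        rw [Finset.sum_const, Finset.card_range, nsmul_eq_mul]
      exact le_of_mul_le_mul_left h2 (Nat.cast_pos.2 hn)

end Groth.Agent.MiscA.DworkOrbit
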