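import Groth.Agent.CohqA.FBCGeom
import Groth.Agent.CohqA.InjLift
import Groth.Agent.Dcoh.DerSch

set_option autoImplicit false
universe u

open CategoryTheory CategoryTheory.Limits AlgebraicGeometry Opposite TopologicalSpace

namespace Groth.Agent.MiscA.FBCHom

open Groth.Agent.CohqA Groth.Agent.Ega1.QCohLoc FBCSquare FBCSec FBCCx FBCRes PullbackUniv BaseChangeMod

variable {X S X' S' : Scheme.{u}} {f : X ⟶ S} {g : S' ⟶ S} {g' : X' ⟶ X} {f' : X' ⟶ S'}

/-- Flat base change at the level of cohomology of sections of injective resolutions. -/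
theorem nonempty_homology_iso (H : IsPullback g' f' f g) [QuasiCompact f] [QuasiSeparated f] [Flat g]
    {M : X.Modules} (hM : Coh.IsQCoh M)
    (J : InjectiveResolution M)
    (I : InjectiveResolution ((Scheme.Modules.pullback g').obj M))
    {V : S.Opens} (hV : IsAffineOpen V) {V' : S'.Opens} (hV' : IsAffineOpen V')
    (e : V' ≤ g ⁻¹ᵁ V) (hα : (g.appLE V V' e).hom.Flat) (n : ℕ) :
    Nonempty ((ModuleCat.extendScalars (g.appLE V V' e).hom).obj
      ((secCx (f.app V).hom (le_refl (f ⁻¹ᵁ V)) J.cocomplex).homology n) ≅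
      (secCx (f'.app V').hom (le_refl (f' ⁻¹ᵁ V')) I.cocomplex).homology n) := by
  have hg' : Flat g' := MorphismProperty.of_isPullback H.flip inferInstance
  obtain ⟨θ, hθ⟩ := InjLift.exists_lift (Scheme.Modules.pushforward g')
    (fun Q hQ => InjLift.injective_pushforward g' Q hQ) J I
    ((Scheme.Modules.pullbackPushforwardAdjunction g').unit.app M)
  have e₁ : f' ⁻¹ᵁ V' ≤ g' ⁻¹ᵁ (f ⁻¹ᵁ V) := by
    have h1 := Scheme.Hom.preimage_mono f' e
    refine h1.trans (le_of_eq ?_)
    rw [← Scheme.Hom.comp_preimage, ← Scheme.Hom.comp_preimage, H.w]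
  have hq := FBCGeom.quasiIso_phi_of_isPullback H hM
    ((Scheme.Modules.pullbackPushforwardAdjunction g').unit.app M) (isUniv_unit g' M) J I θ hθ hV hV' e e₁ hα
  have hp1 := ModuleCat.preservesFiniteLimits_extendScalars_of_flat hα
  have hp2 : PreservesFiniteColimits (ModuleCat.extendScalars.{u, u, u} (g.appLE V V' e).hom) := by
    have : PreservesColimitsOfSize.{0, 0} (ModuleCat.extendScalars.{u, u, u} (g.appLE V V' e).hom) :=
      (ModuleCat.extendRestrictScalarsAdj _).leftAdjoint_preservesColimits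
    exact PreservesColimitsOfSize.preservesFiniteColimits _
  have hpH : (ModuleCat.extendScalars.{u, u, u} (g.appLE V V' e).hom).PreservesHomology := inferInstance
  refine ⟨?_ ≪≫ asIso (HomologicalComplex.homologyMap (phi g' (g.appLE V V' e).hom e₁ (f.app V).hom (f'.app V').hom
      (FBCGeom.ring_square H.w e e₁) θ (le_refl (f ⁻¹ᵁ V)) (le_refl (f' ⁻¹ᵁ V')) e₁) n)⟩
  exact ((((secCx (f.app V).hom (le_refl (f ⁻¹ᵁ V)) J.cocomplex).sc n).mapHomologyIso
    (ModuleCat.extendScalars.{u, u, u} (g.appLE V V' e).hom))).symm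

/-- Abstract transport. -/
theorem transport {A B R R' : Type u} [CommRing A] [CommRing B] [CommRing R] [CommRing R'] [Algebra A B]
    (α : R →+* R') (a : A ≃+* R) (b : B ≃+* R') (hab : ∀ x, α (a x) = b (algebraMap A B x))
    {H : ModuleCat.{u} R} {H' : ModuleCat.{u} R'} (i : (ModuleCat.extendScalars α).obj H ≅ H')
    {N N' : Type u} [AddCommGroup N] [Module A N] [AddCommGroup N'] [Module B N']
    (e : H ≃+ N) (he : ∀ (x : A) (h : H), e (a x • h) = x • e h)
    (e' : H' ≃+ N') (he' : ∀ (x : B) (h : H'), e' (b x • h) = x • e' h) :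
    Nonempty (TensorProduct A B N ≃ₗ[B] N') := by
  -- N → H
  have h1 : IsBC (a : A →+* R) (e.symm : N →+ H) :=
    IsBC.of_bijective _ a.bijective _ e.symm.bijective (fun r x => by
      apply e.injective
      change e (e.symm (r • x)) = e (a r • e.symm x)
      rw [he, AddEquiv.apply_symm_apply, AddEquiv.apply_symm_apply])
  have h2 := isBC_unit α (ModuleCat.extendRestrictScalarsAdj α) H
  have h3 : IsBC α ((i.toLinearEquiv.toLinearMap.toAddMonoidHom).comp
      (addOf α (M := H) (N := (ModuleCat.extendScalars α).obj H) ((ModuleCat.extendRestrictScalarsAdj α).unit.app H))) :=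
    h2.of_equiv i.toLinearEquiv (fun x => rfl)
  have h4 : IsBC (b.symm : R' →+* B) (e' : H' →+ N') :=
    IsBC.of_bijective _ b.symm.bijective _ e'.bijective (fun r x => by
      change e' (r • x) = b.symm r • e' x
      rw [← he', RingEquiv.apply_symm_apply])
  have h5 := (h1.comp h3).comp h4
  have h6 : ((b.symm : R' →+* B).comp (α.comp (a : A →+* R))) = algebraMap A B := by
    ext x
    change b.symm (α (a x)) = _
    rw [hab, RingEquiv.symm_apply_apply]
  rw [h6] at h5
  have h7 := (isBC_iff_isBaseChange (TensorProduct.mk A B N 1)).2 (TensorProduct.isBaseChange A N B)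
  obtain ⟨E, -⟩ := h7.exists_equiv h5
  exact ⟨E⟩


/-- Flat base change, from semilinear comparisons of `H^i` with sections of injective resolutions. -/
theorem result_of_cmp (A B : Type u) [CommRing A] [CommRing B] [Algebra A B]
    [Module.Flat A B] (X X' : Scheme.{u}) [X.Over (Spec (CommRingCat.of A))]
    [X'.Over (Spec (CommRingCat.of B))] [CompactSpace X] [QuasiSeparatedSpace X] (g' : X' ⟶ X)
    (h : IsPullback g' (X' ↘ Spec (CommRingCat.of B)) (X ↘ Spec (CommRingCat.of A))
      (Spec.map (CommRingCat.ofHom (algebraMap A B))))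
    (M : X.Modules) [Coh.IsQCoh M] (i : ℕ)
    (N N' : Type u) [AddCommGroup N] [Module A N] [AddCommGroup N'] [Module B N']
    (J : InjectiveResolution M)
    (I : InjectiveResolution ((Scheme.Modules.pullback g').obj M))
    (e : (secCx ((X ↘ Spec (CommRingCat.of A)).app ⊤).hom
      (le_refl ((X ↘ Spec (CommRingCat.of A)) ⁻¹ᵁ ⊤)) J.cocomplex).homology i ≃+ N)
    (he : ∀ (a : A) (x), e ((Scheme.ΓSpecIso (CommRingCat.of A)).inv.hom a • x) = a • e x)
    (e' : (secCx ((X' ↘ Spec (CommRingCat.of B)).app ⊤).hom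
      (le_refl ((X' ↘ Spec (CommRingCat.of B)) ⁻¹ᵁ ⊤)) I.cocomplex).homology i ≃+ N')
    (he' : ∀ (b : B) (x), e' ((Scheme.ΓSpecIso (CommRingCat.of B)).inv.hom b • x) = b • e' x) :
    Nonempty (TensorProduct A B N ≃ₗ[B] N') := by
  have hqc : QuasiCompact (X ↘ Spec (CommRingCat.of A)) :=
    (quasiCompact_iff_compactSpace _).2 inferInstance
  have hqs : QuasiSeparated (X ↘ Spec (CommRingCat.of A)) :=
    (quasiSeparated_iff_quasiSeparatedSpace _).2 inferInstance
  have hfl : (algebraMap A B).Flat := RingHom.flat_algebraMap_iff.2 inferInstance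
  have hg : Flat (Spec.map (CommRingCat.ofHom (algebraMap A B))) := by
    rw [Flat.SpecMap_iff]
    exact hfl
  have hα : (((Spec.map (CommRingCat.ofHom (algebraMap A B)))).appLE ⊤ ⊤ le_rfl).hom.Flat :=
    Flat.flat_appLE _ (isAffineOpen_top _) (isAffineOpen_top _) _
  obtain ⟨E⟩ := nonempty_homology_iso h (M := M) inferInstance J I
    (isAffineOpen_top (Spec (CommRingCat.of A))) (isAffineOpen_top (Spec (CommRingCat.of B))) le_rfl hα i
  refine transport _ (Scheme.ΓSpecIso (CommRingCat.of A)).symm.commRingCatIsoToRingEquiv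
    (Scheme.ΓSpecIso (CommRingCat.of B)).symm.commRingCatIsoToRingEquiv ?_ E e he e' he'
  intro x
  have h1 := Scheme.ΓSpecIso_inv_naturality (CommRingCat.ofHom (algebraMap A B))
  have h2 := ConcreteCategory.congr_hom h1 x
  refine Eq.trans ?_ h2.symm
  have h3 : ((Spec.map (CommRingCat.ofHom (algebraMap A B)))).appLE ⊤ ⊤ le_rfl =
    ((Spec.map (CommRingCat.ofHom (algebraMap A B)))).appTop := Scheme.Hom.appLE_eq_app _
  rw [h3]
  rfl

end Groth.Agent.MiscA.FBCHom
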