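import Mathlib.RingTheory.Regular.RegularSequence
import Mathlib.RingTheory.ReesAlgebra
import Mathlib.Algebra.MvPolynomial.Equiv
import Mathlib.RingTheory.MvPolynomial.Basic
import Mathlib.RingTheory.Polynomial.Basic
import Mathlib.Algebra.Polynomial.Inductions

set_option autoImplicit false
universe u v w

open MvPolynomial

namespace Groth.Agent.MiscA.LinearType

variable {A : Type u} [CommRing A] {σ : Type v}

/-- `X_i ↦ a_i T`, from `A[X]` to `A[T]`. -/
noncomputable def phi (a : σ → A) : MvPolynomial σ A →ₐ[A] Polynomial A :=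
  MvPolynomial.aeval (R := A) (fun i : σ => Polynomial.C (a i) * (Polynomial.X : Polynomial A))

/-- The ideal generated by the `a_i X_j - a_j X_i`. -/
noncomputable def J (a : σ → A) : Ideal (MvPolynomial σ A) :=
  Ideal.span {q : MvPolynomial σ A | ∃ i j : σ,
        q = MvPolynomial.C (a i) * MvPolynomial.X j - MvPolynomial.C (a j) * MvPolynomial.X i}

/-- `a` is of linear type. -/
def LinType (a : σ → A) : Prop := RingHom.ker (phi a) ≤ J a

lemma J_le_ker (a : σ → A) : J a ≤ RingHom.ker (phi a) := by
  unfold J
  rw [Ideal.span_le]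
  rintro q ⟨i, j, rfl⟩
  simp only [SetLike.mem_coe, RingHom.mem_ker, phi, map_sub, map_mul, MvPolynomial.aeval_X,
    MvPolynomial.algHom_C, Polynomial.algebraMap_eq]
  ring

lemma J_le_map (a : σ → A) : J a ≤ Ideal.map MvPolynomial.C (Ideal.span (Set.range a)) := by
  unfold J
  rw [Ideal.span_le]
  rintro q ⟨i, j, rfl⟩
  have h : ∀ i, MvPolynomial.C (a i) ∈ Ideal.map (MvPolynomial.C (σ := σ)) (Ideal.span (Set.range a)) :=
    fun i => Ideal.mem_map_of_mem _ (Ideal.subset_span ⟨i, rfl⟩)
  exact sub_mem (Ideal.mul_mem_right _ _ (h i)) (Ideal.mul_mem_right _ _ (h j))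

lemma phi_mem (a : σ → A) (g : MvPolynomial σ A) :
    phi a g ∈ reesAlgebra (Ideal.span (Set.range a)) := by
  induction g using MvPolynomial.induction_on with
  | C r =>
    simp only [phi, MvPolynomial.algHom_C]
    exact Subalgebra.algebraMap_mem _ _
  | add p q hp hq => rw [map_add]; exact add_mem hp hq
  | mul_X p i hp =>
    rw [map_mul]
    refine mul_mem hp ?_
    simp only [phi, MvPolynomial.aeval_X]
    rw [← pow_one (Polynomial.X : Polynomial A), Polynomial.C_mul_X_pow_eq_monomial]
    exact reesAlgebra.monomial_mem.mpr (by rw [pow_one]; exact Ideal.subset_span ⟨i, rfl⟩)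

lemma exists_phi_eq (a : σ → A) (p : Polynomial A)
    (hp : p ∈ reesAlgebra (Ideal.span (Set.range a))) : ∃ g, phi a g = p := by
  have : reesAlgebra (Ideal.span (Set.range a)) ≤ (phi a).range := by
    rw [← adjoin_monomial_eq_reesAlgebra]
    refine Algebra.adjoin_le ?_
    rintro _ ⟨x, hx, rfl⟩
    refine Submodule.span_induction (p := fun x _ => Polynomial.monomial 1 x ∈ (phi a).range)
      ?_ ?_ ?_ ?_ hx
    · rintro _ ⟨i, rfl⟩
      refine ⟨MvPolynomial.X i, ?_⟩
      simp [phi, Polynomial.C_mul_X_eq_monomial]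
    · rw [map_zero]
      exact zero_mem _
    · intro x y _ _ hx hy
      rw [map_add]; exact add_mem hx hy
    · intro r x _ hx
      rw [map_smul]
      exact Subalgebra.smul_mem _ hx r
  exact this hp

lemma coeff_phi_mem (a : σ → A) (g : MvPolynomial σ A) (i : ℕ) :
    (phi a g).coeff i ∈ Ideal.span (Set.range a) ^ i :=
  (mem_reesAlgebra_iff _ _).mp (phi_mem a g) i

lemma coeff_phi_mem_succ (a : σ → A) (g : MvPolynomial σ A)
    (hg : g ∈ Ideal.map MvPolynomial.C (Ideal.span (Set.range a))) (i : ℕ) :
    (phi a g).coeff i ∈ Ideal.span (Set.range a) ^ (i + 1) := by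
  unfold Ideal.map at hg
  refine Submodule.span_induction (p := fun g _ => ∀ i, (phi a g).coeff i ∈ Ideal.span (Set.range a) ^ (i + 1))
    ?_ ?_ ?_ ?_ hg i
  · rintro _ ⟨r, hr, rfl⟩ i
    simp only [phi, MvPolynomial.algHom_C, Polynomial.algebraMap_eq, Polynomial.coeff_C]
    split_ifs with h
    · subst h
      simpa using hr
    · exact zero_mem _
  · simp
  · intro x y _ _ hx hy i
    rw [map_add, Polynomial.coeff_add]
    exact add_mem (hx i) (hy i)
  · intro r x _ hx i
    rw [smul_eq_mul, map_mul, Polynomial.coeff_mul]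
    refine sum_mem fun jk hjk => ?_
    rw [Finset.mem_antidiagonal] at hjk
    rw [← hjk, add_assoc, pow_add]
    exact Ideal.mul_mem_mul (coeff_phi_mem a r jk.1) (hx jk.2)

/-- an element of `I * I ^ d` in degree `d` is hit by an element with coefficients in `I` -/
lemma exists_phi_eq_monomial_succ (a : σ → A) (d : ℕ) (x : A)
    (hx : x ∈ Ideal.span (Set.range a) ^ (d + 1)) :
    ∃ h ∈ Ideal.map MvPolynomial.C (Ideal.span (Set.range a)), phi a h = Polynomial.monomial d x := by
  rw [pow_succ'] at hx
  refine Submodule.mul_induction_on hx ?_ ?_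
  · intro r hr s hs
    obtain ⟨g, hg⟩ := exists_phi_eq a (Polynomial.monomial d s) (reesAlgebra.monomial_mem.mpr hs)
    refine ⟨MvPolynomial.C r * g, Ideal.mul_mem_right _ _ (Ideal.mem_map_of_mem _ hr), ?_⟩
    rw [map_mul, hg]
    simp [phi, MvPolynomial.algHom_C, Polynomial.C_mul_monomial]
  · rintro x y ⟨h1, hm1, h1'⟩ ⟨h2, hm2, h2'⟩
    exact ⟨h1 + h2, add_mem hm1 hm2, by rw [map_add, h1', h2', map_add]⟩

lemma regular_mod_pow (a : σ → A) (ha : LinType a) (b : A)
    (hb : ∀ x, b * x ∈ Ideal.span (Set.range a) → x ∈ Ideal.span (Set.range a)) (d : ℕ) :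
    ∀ x, b * x ∈ Ideal.span (Set.range a) ^ d → x ∈ Ideal.span (Set.range a) ^ d := by
  induction d with
  | zero => simp
  | succ d ih =>
    intro x hx
    have h1 : x ∈ Ideal.span (Set.range a) ^ d := ih x (Ideal.pow_le_pow_right (Nat.le_succ d) hx)
    obtain ⟨g, hg⟩ := exists_phi_eq a (Polynomial.monomial d x) (reesAlgebra.monomial_mem.mpr h1)
    obtain ⟨h, hh, hh'⟩ := exists_phi_eq_monomial_succ a d _ hx
    have h2 : MvPolynomial.C b * g - h ∈ RingHom.ker (phi a) := by
      rw [RingHom.mem_ker, map_sub, map_mul, hg, hh']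
      simp [phi, MvPolynomial.algHom_C, Polynomial.C_mul_monomial]
    have h3 : MvPolynomial.C b * g ∈ Ideal.map MvPolynomial.C (Ideal.span (Set.range a)) := by
      have := add_mem (J_le_map a (ha h2)) hh
      simpa using this
    have h4 : g ∈ Ideal.map MvPolynomial.C (Ideal.span (Set.range a)) := by
      rw [MvPolynomial.mem_map_C_iff] at h3 ⊢
      intro m
      have := h3 m
      rw [MvPolynomial.coeff_C_mul] at this
      exact hb _ this
    have h5 := coeff_phi_mem_succ a g h4 d
    rw [hg] at h5
    simpa using h5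

/-- The extended family. -/
def ext (a : σ → A) (b : A) : Option σ → A := fun o => o.elim b a

lemma key_monomial (a : σ → A) (b : A) (d : ℕ) (x : A)
    (hx : x ∈ Ideal.span (Set.range a) ^ (d + 1)) :
    ∃ k h : MvPolynomial σ A, phi a k = Polynomial.monomial d x ∧
      MvPolynomial.X none * MvPolynomial.rename some k -
        MvPolynomial.C b * MvPolynomial.rename some h ∈ J (ext a b) := by
  rw [pow_succ'] at hx
  refine Submodule.mul_induction_on hx ?_ ?_
  · intro r hr s hs
    obtain ⟨g, hg⟩ := exists_phi_eq a (Polynomial.monomial d s) (reesAlgebra.monomial_mem.mpr hs)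
    refine Submodule.span_induction (p := fun r _ => ∃ k h : MvPolynomial σ A,
      phi a k = Polynomial.monomial d (r * s) ∧
      MvPolynomial.X none * MvPolynomial.rename some k -
        MvPolynomial.C b * MvPolynomial.rename some h ∈ J (ext a b)) ?_ ?_ ?_ ?_ hr
    · rintro _ ⟨i, rfl⟩
      refine ⟨MvPolynomial.C (a i) * g, MvPolynomial.X i * g, ?_, ?_⟩
      · rw [map_mul, hg]
        simp [phi, MvPolynomial.algHom_C, Polynomial.C_mul_monomial]
      · have : (MvPolynomial.X none * MvPolynomial.rename some (MvPolynomial.C (a i) * g) -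
          MvPolynomial.C b * MvPolynomial.rename some (MvPolynomial.X i * g) : MvPolynomial (Option σ) A) =
          MvPolynomial.rename some g * (MvPolynomial.C (ext a b (some i)) * MvPolynomial.X none -
            MvPolynomial.C (ext a b none) * MvPolynomial.X (some i)) := by
          simp only [map_mul, MvPolynomial.rename_C, MvPolynomial.rename_X, ext, Option.elim]
          ring
        rw [this]
        exact Ideal.mul_mem_left _ _ (Ideal.subset_span ⟨some i, none, rfl⟩)
    · exact ⟨0, 0, by simp, by simp⟩
    · rintro x y _ _ ⟨k1, h1, e1, m1⟩ ⟨k2, h2, e2, m2⟩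
      refine ⟨k1 + k2, h1 + h2, by rw [map_add, e1, e2, add_mul, map_add], ?_⟩
      have := add_mem m1 m2
      convert this using 1
      simp only [map_add]
      ring
    · rintro c x _ ⟨k1, h1, e1, m1⟩
      refine ⟨MvPolynomial.C c * k1, MvPolynomial.C c * h1, ?_, ?_⟩
      · rw [map_mul, e1]
        simp [phi, MvPolynomial.algHom_C, Polynomial.C_mul_monomial, mul_assoc]
      · have := Ideal.mul_mem_left _ (MvPolynomial.C c) m1
        convert this using 1
        simp only [map_mul, MvPolynomial.rename_C]
        ring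
  · rintro x y ⟨k1, h1, e1, m1⟩ ⟨k2, h2, e2, m2⟩
    refine ⟨k1 + k2, h1 + h2, by rw [map_add, e1, e2, map_add], ?_⟩
    have := add_mem m1 m2
    convert this using 1
    simp only [map_add]
    ring

lemma key_poly (a : σ → A) (b : A) (p : Polynomial A)
    (hp : ∀ d, p.coeff d ∈ Ideal.span (Set.range a) ^ (d + 1)) :
    ∃ k h : MvPolynomial σ A, phi a k = p ∧
      MvPolynomial.X none * MvPolynomial.rename some k -
        MvPolynomial.C b * MvPolynomial.rename some h ∈ J (ext a b) := by
  choose k h e m using fun d => key_monomial a b d (p.coeff d) (hp d)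
  refine ⟨∑ d ∈ p.support, k d, ∑ d ∈ p.support, h d, ?_, ?_⟩
  · rw [map_sum]
    conv_rhs => rw [p.as_sum_support]
    exact Finset.sum_congr rfl fun d _ => e d
  · have := Submodule.sum_mem (J (ext a b)) (t := p.support) (fun d _ => m d)
    convert this using 1
    rw [map_sum, map_sum, Finset.mul_sum, Finset.mul_sum, Finset.sum_sub_distrib]


lemma phi_ext_rename (a : σ → A) (b : A) (g : MvPolynomial σ A) :
    phi (ext a b) (MvPolynomial.rename some g) = phi a g := by
  simp only [phi, MvPolynomial.aeval_rename]
  rfl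

lemma rename_mem (a : σ → A) (b : A) (g : MvPolynomial σ A) (hg : g ∈ J a) :
    MvPolynomial.rename some g ∈ J (ext a b) := by
  have h : J a ≤ Ideal.comap (MvPolynomial.rename some : MvPolynomial σ A →ₐ[A] _) (J (ext a b)) := by
    unfold J
    rw [Ideal.span_le]
    rintro q ⟨i, j, rfl⟩
    simp only [SetLike.mem_coe, Ideal.mem_comap]
    refine Ideal.subset_span ⟨some i, some j, ?_⟩
    simp [ext]
  exact h hg

lemma step_aux (a : σ → A) (ha : LinType a) (b : A)
    (hb : ∀ x, b * x ∈ Ideal.span (Set.range a) → x ∈ Ideal.span (Set.range a)) (n : ℕ) :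
    ∀ f : Polynomial (MvPolynomial σ A), f.natDegree ≤ n →
      phi (ext a b) ((MvPolynomial.optionEquivLeft A σ).symm f) = 0 →
      (MvPolynomial.optionEquivLeft A σ).symm f ∈ J (ext a b) := by
  have hC : ∀ g : MvPolynomial σ A, (MvPolynomial.optionEquivLeft A σ).symm (Polynomial.C g) =
      MvPolynomial.rename some g := by
    intro g
    rw [AlgEquiv.symm_apply_eq]
    induction g using MvPolynomial.induction_on with
    | C r => simp
    | add p q hp hq => simp [hp, hq]
    | mul_X p i hp => simp [hp]
  have hX : (MvPolynomial.optionEquivLeft A σ).symm Polynomial.X = MvPolynomial.X none := by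
    rw [AlgEquiv.symm_apply_eq]
    simp
  have hrange : ∀ g : MvPolynomial σ A, phi a g = 0 →
      MvPolynomial.rename some g ∈ J (ext a b) := fun g hg => rename_mem a b g (ha hg)
  induction n with
  | zero =>
    intro f hf hf0
    rw [Polynomial.eq_C_of_natDegree_le_zero hf, hC] at hf0 ⊢
    rw [phi_ext_rename] at hf0
    exact hrange _ hf0
  | succ n ih =>
    intro f hf hf0
    set e := (MvPolynomial.optionEquivLeft A σ).symm with he
    set g := f.divX with hg
    have hfg : e f = e g * MvPolynomial.X none + MvPolynomial.rename some (f.coeff 0) := by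
      rw [← hX, ← hC, ← map_mul, ← map_add, hg, Polynomial.divX_mul_X_add]
    set p := phi (ext a b) (e g) with hp
    have h1 : p * (Polynomial.C b * Polynomial.X) + phi a (f.coeff 0) = 0 := by
      rw [← hf0, hfg, map_add, map_mul, phi_ext_rename]
      simp [phi, ext, hp]
    have h2 : ∀ d, p.coeff d ∈ Ideal.span (Set.range a) ^ (d + 1) := by
      intro d
      apply regular_mod_pow a ha b hb
      have h3 := congrArg (fun q => q.coeff (d + 1)) h1
      simp only [Polynomial.coeff_add, Polynomial.coeff_zero, ← mul_assoc, Polynomial.coeff_mul_X,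
        Polynomial.coeff_mul_C] at h3
      rw [mul_comm, eq_neg_of_add_eq_zero_left h3]
      exact neg_mem (coeff_phi_mem a _ _)
    obtain ⟨k, h, hk, hkh⟩ := key_poly a b p h2
    have h4 : e (g - Polynomial.C k) ∈ J (ext a b) := by
      apply ih
      · refine (Polynomial.natDegree_sub_C (p := g) (a := k)).le.trans ?_
        rw [hg, Polynomial.natDegree_divX_eq_natDegree_tsub_one]
        omega
      · rw [map_sub, hC, map_sub, phi_ext_rename, hk, ← hp, sub_self]
    have h5 : e f = e (g - Polynomial.C k) * MvPolynomial.X none +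
        (MvPolynomial.X none * MvPolynomial.rename some k -
          MvPolynomial.C b * MvPolynomial.rename some h) +
        MvPolynomial.rename some (MvPolynomial.C b * h + f.coeff 0) := by
      rw [hfg, map_sub, hC]
      simp only [map_add, map_mul, MvPolynomial.rename_C]
      ring
    have h6 : phi a (MvPolynomial.C b * h + f.coeff 0) = 0 := by
      rw [← phi_ext_rename a b]
      have h7 : phi (ext a b) (e f) = 0 := hf0
      rw [h5, map_add, map_add, map_mul] at h7
      have h8 := J_le_ker _ h4
      have h9 := J_le_ker _ hkh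
      rw [RingHom.mem_ker] at h8 h9
      rw [h8, h9, zero_mul, zero_add, zero_add] at h7
      exact h7
    rw [h5]
    exact add_mem (add_mem (Ideal.mul_mem_right _ _ h4) hkh) (hrange _ h6)

lemma linType_ext (a : σ → A) (ha : LinType a) (b : A)
    (hb : ∀ x, b * x ∈ Ideal.span (Set.range a) → x ∈ Ideal.span (Set.range a)) :
    LinType (ext a b) := by
  intro f hf
  have := step_aux a ha b hb _ (MvPolynomial.optionEquivLeft A σ f) le_rfl (by simpa using hf)
  simpa using this

lemma linType_of_equiv {τ : Type w} (a : σ → A) (e : τ ≃ σ) (h : LinType (a ∘ e)) : LinType a := by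
  intro f hf
  have h1 : MvPolynomial.rename e.symm f ∈ J (a ∘ e) := by
    apply h
    rw [RingHom.mem_ker] at hf ⊢
    rw [← hf]
    simp only [phi, MvPolynomial.aeval_rename]
    congr 2
    ext i
    simp
  have h2 : J (a ∘ e) ≤ Ideal.comap (MvPolynomial.rename e : MvPolynomial τ A →ₐ[A] _) (J a) := by
    unfold J
    rw [Ideal.span_le]
    rintro q ⟨i, j, rfl⟩
    simp only [SetLike.mem_coe, Ideal.mem_comap]
    refine Ideal.subset_span ⟨e i, e j, ?_⟩
    simp
  have h3 := h2 h1
  rw [Ideal.mem_comap, MvPolynomial.rename_rename] at h3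
  simpa using h3

lemma linType_empty [IsEmpty σ] (a : σ → A) : LinType a := by
  intro f hf
  rw [RingHom.mem_ker] at hf
  obtain ⟨r, rfl⟩ := MvPolynomial.C_surjective σ f
  simp only [phi, MvPolynomial.algHom_C, Polynomial.algebraMap_eq] at hf
  rw [Polynomial.C_eq_zero.mp hf, map_zero]
  exact zero_mem _

theorem linType_of_isWeaklyRegular {n : ℕ} (a : Fin n → A)
    (ha : RingTheory.Sequence.IsWeaklyRegular A (List.ofFn a)) : LinType a := by
  induction n with
  | zero => exact linType_empty a
  | succ n ih =>
    rw [List.ofFn_succ', List.concat_eq_append,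
      RingTheory.Sequence.isWeaklyRegular_append_iff] at ha
    have h1 := ih _ ha.1
    have h2 := (RingTheory.Sequence.isWeaklyRegular_singleton_iff _ _).mp ha.2
    have hI : Ideal.ofList (List.ofFn fun i => a (Fin.castSucc i)) =
        Ideal.span (Set.range fun i => a (Fin.castSucc i)) := by
      unfold Ideal.ofList
      congr 1
      ext x
      simp [List.mem_ofFn]
    have h3 := linType_ext _ h1 (a (Fin.last n)) (by
      intro x hx
      have h4 := @h2 (Submodule.Quotient.mk x) (Submodule.Quotient.mk 0) (by
        show a (Fin.last n) • Submodule.Quotient.mk x = a (Fin.last n) • Submodule.Quotient.mk 0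
        rw [← Submodule.Quotient.mk_smul, ← Submodule.Quotient.mk_smul, Submodule.Quotient.eq, hI]
        simpa using hx)
      rw [Submodule.Quotient.eq, hI] at h4
      simpa using h4)
    refine linType_of_equiv a (finSuccEquivLast (n := n)).symm ?_
    convert h3 using 1
    ext o
    cases o with
    | none => simp [ext]
    | some i => simp [ext]

end Groth.Agent.MiscA.LinearType
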