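import Groth.Prelude.Def_SgaExt
import Mathlib.AlgebraicGeometry.ResidueField
import Mathlib.AlgebraicGeometry.Morphisms.FiniteType
import Mathlib.AlgebraicGeometry.Morphisms.QuasiCompact
import Mathlib.FieldTheory.Finite.GaloisField
import Mathlib.FieldTheory.Finite.Extension
import Mathlib.Algebra.Field.ULift
import Mathlib.Algebra.Algebra.Basic
import Mathlib.NumberTheory.Divisors

/-!
Point counts of schemes of finite type over a finite field, in terms of closed points.
-/

set_option autoImplicit false
universe u
open AlgebraicGeometry CategoryTheory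

namespace Groth.Agent.MiscA.PointCount

section

variable {k : Type u} [Field k] {X : Scheme.{u}} (f : X ⟶ Spec (CommRingCat.of k))

/-- The structure map `k → κ(x)` of the residue field at a point of a `k`-scheme. -/
noncomputable def resHom (x : X) : k →+* X.residueField x :=
  (Spec.preimage (X.fromSpecResidueField x ≫ f)).hom

/-- The degree `[κ(x) : k]` of a point (`0` if infinite). -/
noncomputable def degree (x : X) : ℕ :=
  letI := (resHom f x).toAlgebra
  Module.finrank k (X.residueField x)

theorem spec_map_resHom (x : X) :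
    Spec.map (CommRingCat.ofHom (resHom f x)) = X.fromSpecResidueField x ≫ f := by
  rw [resHom, CommRingCat.ofHom_hom, Spec.map_preimage]

/-- `k'`-points of a `k`-scheme are pairs of a point and a `k`-embedding of its residue field. -/
noncomputable def pointEquiv (k' : Type u) [Field k'] [Algebra k k'] :
    { g : Spec (CommRingCat.of k') ⟶ X //
      g ≫ f = Spec.map (CommRingCat.ofHom (algebraMap k k')) } ≃
    Σ x : X, { φ : X.residueField x →+* k' // φ.comp (resHom f x) = algebraMap k k' } := by
  refine ((Scheme.SpecToEquivOfField k' X).subtypeEquiv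
    (q := fun (p : Σ x : X, X.residueField x ⟶ CommRingCat.of k') =>
      p.2.hom.comp (resHom f p.1) = algebraMap k k') ?_).trans ?_
  · intro g
    obtain ⟨p, rfl⟩ := (Scheme.SpecToEquivOfField k' X).symm.surjective g
    rw [Equiv.apply_symm_apply]
    obtain ⟨x, φ⟩ := p
    change (Spec.map φ ≫ X.fromSpecResidueField x) ≫ f = _ ↔ φ.hom.comp (resHom f x) = _
    rw [Category.assoc, ← spec_map_resHom, ← Spec.map_comp, Spec.map_inj]
    constructor
    · intro h
      exact congrArg CommRingCat.Hom.hom h
    · intro h
      ext1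
      exact h
  · exact
      { toFun := fun p => ⟨p.1.1, ⟨p.1.2.hom, p.2⟩⟩
        invFun := fun p => ⟨⟨p.1, CommRingCat.ofHom p.2.1⟩, p.2.2⟩
        left_inv := fun p => rfl
        right_inv := fun p => rfl }

/-- The number of embeddings of the residue field. -/
theorem natCard_embeddings [Finite k] (k' : Type u) [Field k'] [Algebra k k'] [Finite k'] (x : X) :
    Nat.card { φ : X.residueField x →+* k' // φ.comp (resHom f x) = algebraMap k k' } =
      if degree f x ∣ Module.finrank k k' then degree f x else 0 := by
  let _ := (resHom f x).toAlgebra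
  have e : { φ : X.residueField x →+* k' // φ.comp (resHom f x) = algebraMap k k' } ≃
      (X.residueField x →ₐ[k] k') :=
    { toFun := fun φ => { toRingHom := φ.1, commutes' := fun r => RingHom.congr_fun φ.2 r }
      invFun := fun φ => ⟨φ.toRingHom, RingHom.ext fun r => φ.commutes r⟩
      left_inv := fun φ => rfl
      right_inv := fun φ => rfl }
  rw [Nat.card_congr e]
  split_ifs with h
  · exact FiniteField.natCard_algHom_of_finrank_dvd h
  · have : IsEmpty (X.residueField x →ₐ[k] k') := by
      rw [← not_nonempty_iff]
      intro hne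
      exact h (FiniteField.nonempty_algHom_iff_finrank_dvd.mp hne)
    exact Nat.card_of_isEmpty

/-- Finiteness of the set of points with values in a finite field. -/
theorem finite_points [LocallyOfFiniteType f] [QuasiCompact f] (k' : Type u) [Field k']
    [Algebra k k'] [Finite k'] :
    Finite { g : Spec (CommRingCat.of k') ⟶ X //
      g ≫ f = Spec.map (CommRingCat.ofHom (algebraMap k k')) } := by
  classical
  have hX : CompactSpace X := by
    have : CompactSpace (Spec (CommRingCat.of k)) := inferInstance
    exact QuasiCompact.compactSpace_of_compactSpace f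
  -- a finite affine cover
  let 𝒰 := X.affineCover.finiteSubcover
  have hfin : ∀ i : 𝒰.I₀, Finite { g : Spec (CommRingCat.of k') ⟶ 𝒰.X i //
      g ≫ 𝒰.f i ≫ f = Spec.map (CommRingCat.ofHom (algebraMap k k')) } := by
    intro i
    obtain ⟨R, hR⟩ : ∃ R : CommRingCat.{u}, 𝒰.X i = Spec R := ⟨_, rfl⟩
    have hft : LocallyOfFiniteType (𝒰.f i ≫ f) := inferInstance
    generalize 𝒰.f i ≫ f = g₀ at hft ⊢
    revert g₀
    rw [hR]
    intro g₀ hft
    obtain ⟨φ, rfl⟩ := Spec.map_surjective g₀
    have hφ : φ.hom.FiniteType := by
      exact (HasRingHomProperty.Spec_iff (P := @LocallyOfFiniteType)).mp hft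
    let _ := φ.hom.toAlgebra
    have hft' : Algebra.FiniteType k R := hφ
    obtain ⟨s, hs⟩ := hft'.out
    let F : { g : Spec (CommRingCat.of k') ⟶ Spec R //
        g ≫ Spec.map φ = Spec.map (CommRingCat.ofHom (algebraMap k k')) } → (s → k') :=
      fun g a => (Spec.preimage g.1).hom a.1
    refine Finite.of_injective F ?_
    rintro ⟨g, hg⟩ ⟨g', hg'⟩ h
    obtain ⟨ψ, rfl⟩ := Spec.map_surjective g
    obtain ⟨ψ', rfl⟩ := Spec.map_surjective g'
    rw [← Spec.map_comp, Spec.map_inj] at hg hg'
    have hg1 : ψ.hom.comp φ.hom = algebraMap k k' := congrArg CommRingCat.Hom.hom hg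
    have hg2 : ψ'.hom.comp φ.hom = algebraMap k k' := congrArg CommRingCat.Hom.hom hg'
    let a : R →ₐ[k] k' := { ψ.hom with commutes' := fun r => RingHom.congr_fun hg1 r }
    let a' : R →ₐ[k] k' := { ψ'.hom with commutes' := fun r => RingHom.congr_fun hg2 r }
    have haa : a = a' := by
      refine AlgHom.ext_of_adjoin_eq_top hs ?_
      intro x hx
      have := congrFun h ⟨x, hx⟩
      simp only [F, Spec.preimage_map] at this
      exact this
    have : ψ = ψ' := by
      ext x
      exact congrArg (fun q : R →ₐ[k] k' => q x) haa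
    simp [this]
  let G : (Σ i : 𝒰.I₀, { g : Spec (CommRingCat.of k') ⟶ 𝒰.X i //
      g ≫ 𝒰.f i ≫ f = Spec.map (CommRingCat.ofHom (algebraMap k k')) }) →
      { g : Spec (CommRingCat.of k') ⟶ X //
        g ≫ f = Spec.map (CommRingCat.ofHom (algebraMap k k')) } :=
    fun p => ⟨p.2.1 ≫ 𝒰.f p.1, by rw [Category.assoc]; exact p.2.2⟩
  refine Finite.of_surjective G ?_
  rintro ⟨g, hg⟩
  -- the image point
  let x : X := g (IsLocalRing.closedPoint k')
  obtain ⟨i, y, hy⟩ := 𝒰.exists_eq x
  have hrange : Set.range g ⊆ Set.range (𝒰.f i) := by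
    rintro _ ⟨z, rfl⟩
    have : z = IsLocalRing.closedPoint k' := Subsingleton.elim _ _
    rw [this]
    exact ⟨y, hy⟩
  refine ⟨⟨i, ⟨IsOpenImmersion.lift (𝒰.f i) g hrange, ?_⟩⟩, ?_⟩
  · rw [IsOpenImmersion.lift_fac_assoc]
    exact hg
  · apply Subtype.ext
    exact IsOpenImmersion.lift_fac _ _ _

theorem degree_pos_of_dvd (k' : Type u) [Field k'] [Algebra k k'] [Finite k'] {x : X}
    (hx : degree f x ∣ Module.finrank k k') : 0 < degree f x := by
  have : Module.Finite k k' := Module.Finite.of_finite
  exact Nat.pos_of_dvd_of_pos hx Module.finrank_pos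

/-- The points of `X` whose degree divides `[k' : k]` form a finite set. -/
theorem finite_degree_dvd [Finite k] [LocallyOfFiniteType f] [QuasiCompact f] (k' : Type u)
    [Field k'] [Algebra k k'] [Finite k'] :
    {x : X | degree f x ∣ Module.finrank k k'}.Finite := by
  have h1 := finite_points f k'
  have h2 : Finite (Σ x : X,
      { φ : X.residueField x →+* k' // φ.comp (resHom f x) = algebraMap k k' }) :=
    Finite.of_equiv _ (pointEquiv f k')
  have hne : ∀ x : {x : X | degree f x ∣ Module.finrank k k'},
      Nonempty { φ : X.residueField x.1 →+* k' // φ.comp (resHom f x.1) = algebraMap k k' } := by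
    rintro ⟨x, hx⟩
    by_contra hcon
    rw [not_nonempty_iff] at hcon
    have h3 := natCard_embeddings f k' x
    have hx' : degree f x ∣ Module.finrank k k' := hx
    rw [if_pos hx', Nat.card_eq_zero.mpr (Or.inl hcon)] at h3
    exact (degree_pos_of_dvd f k' hx).ne h3
  have : Finite {x : X | degree f x ∣ Module.finrank k k'} := Finite.of_injective (fun x : {x : X | degree f x ∣ Module.finrank k k'} =>
    (⟨x.1, (hne x).some⟩ : Σ x : X,
      { φ : X.residueField x →+* k' // φ.comp (resHom f x) = algebraMap k k' })) (by
    rintro ⟨x, hx⟩ ⟨y, hy⟩ h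
    exact Subtype.ext (congrArg Sigma.fst h))
  exact Set.toFinite _

/-- The number of `k'`-points in terms of the closed points: `#X(k') = ∑_{d ∣ n} d · B_d`, where
`B_d` is the number of points of degree `d`. -/
theorem pointCount_eq [Finite k] [LocallyOfFiniteType f] [QuasiCompact f] (k' : Type u)
    [Field k'] [Algebra k k'] [Finite k'] :
    SgaExt.pointCount f k' =
      ∑ d ∈ (Module.finrank k k').divisors, d * Set.ncard {x : X | degree f x = d} := by
  classical
  have hn : Module.finrank k k' ≠ 0 := by
    have : Module.Finite k k' := Module.Finite.of_finite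
    exact Module.finrank_pos.ne'
  have hS := finite_degree_dvd f k'
  have h1 := finite_points f k'
  let P : X → Type u := fun x =>
    { φ : X.residueField x →+* k' // φ.comp (resHom f x) = algebraMap k k' }
  have h2 : Finite (Σ x : X, P x) := Finite.of_equiv _ (pointEquiv f k')
  have hP : ∀ x, Finite (P x) := fun x =>
    Finite.of_injective (fun p : P x => (⟨x, p⟩ : Σ x : X, P x)) sigma_mk_injective
  have e : (Σ x : X, P x) ≃ Σ x : hS.toFinset, P x.1 :=
    { toFun := fun p => ⟨⟨p.1, by
        rw [Set.Finite.mem_toFinset]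
        by_contra hcon
        have h3 := natCard_embeddings f k' p.1
        have hcon' : ¬ degree f p.1 ∣ Module.finrank k k' := hcon
        rw [if_neg hcon', Nat.card_eq_zero] at h3
        rcases h3 with h3 | h3
        · exact h3.false p.2
        · exact (not_finite_iff_infinite.mpr h3) (hP p.1)⟩, p.2⟩
      invFun := fun p => ⟨p.1.1, p.2⟩
      left_inv := fun p => rfl
      right_inv := fun p => rfl }
  have h3 : SgaExt.pointCount f k' = ∑ x : hS.toFinset, Nat.card (P x.1) := by
    rw [SgaExt.pointCount, Nat.card_congr ((pointEquiv f k').trans e), Nat.card_sigma]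
  have h4 : ∀ x : hS.toFinset, Nat.card (P x.1) = degree f x.1 := by
    intro x
    have := natCard_embeddings f k' x.1
    have hx : degree f x.1 ∣ Module.finrank k k' := (Set.Finite.mem_toFinset hS).mp x.2
    rw [if_pos hx] at this
    exact this
  rw [h3, Finset.sum_congr rfl fun x _ => h4 x, Finset.sum_coe_sort hS.toFinset (degree f)]
  rw [← Finset.sum_fiberwise_of_maps_to (s := hS.toFinset) (t := (Module.finrank k k').divisors)
    (g := degree f) (fun x hx => by
      rw [Nat.mem_divisors]
      exact ⟨(Set.Finite.mem_toFinset hS).mp hx, hn⟩)]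
  refine Finset.sum_congr rfl fun d hd => ?_
  rw [Finset.sum_congr rfl (fun x hx => (Finset.mem_filter.mp hx).2), Finset.sum_const,
    smul_eq_mul, mul_comm]
  congr 1
  rw [← Set.ncard_coe_finset]
  congr 1
  ext x
  simp only [Finset.coe_filter, Set.Finite.mem_toFinset, Set.mem_ofPred_eq]
  constructor
  · exact fun h => h.2
  · exact fun h => ⟨by rw [h]; exact (Nat.mem_divisors.mp hd).1, h⟩

/-- A finite extension of a finite field of given degree (in the same universe). -/
theorem exists_extension (k : Type u) [Field k] [Finite k] (n : ℕ) (hn : n ≠ 0) :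
    ∃ (k' : Type u) (_ : Field k') (_ : Algebra k k') (_ : Finite k'), Module.finrank k k' = n := by
  obtain ⟨p, hp⟩ := CharP.exists k
  have : Fact p.Prime := ⟨CharP.char_is_prime k p⟩
  have : NeZero n := ⟨hn⟩
  refine ⟨ULift.{u} (FiniteField.Extension k p n), inferInstance, inferInstance, inferInstance, ?_⟩
  rw [(ULift.moduleEquiv (R := k) (M := FiniteField.Extension k p n)).finrank_eq]
  exact FiniteField.finrank_extension k p n

/-- Points with residue degree `d` (`d > 0`). -/
theorem finite_degree_eq [Finite k] [LocallyOfFiniteType f] [QuasiCompact f] (d : ℕ) (hd : 0 < d) :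
    {x : X | degree f x = d}.Finite := by
  obtain ⟨k', _, _, _, hk'⟩ := exists_extension k d hd.ne'
  refine (finite_degree_dvd f k').subset ?_
  intro x hx
  have hx' : degree f x = d := hx
  change degree f x ∣ _
  rw [hx', hk']

end

end Groth.Agent.MiscA.PointCount
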