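import Mathlib.RingTheory.Regular.RegularSequence
import Mathlib.RingTheory.KrullDimension.Regular
import Mathlib.RingTheory.Ideal.KrullsHeightTheorem
import Mathlib.RingTheory.Regular.ProjectiveDimension

set_option autoImplicit false
universe u

open RingTheory.Sequence IsLocalRing Pointwise

namespace Groth.Agent.MiscA.RegSeq

/-- decomposition of an element of the ideal generated by a list, in a local ring -/
lemma mem_ofList_dichotomy {A : Type u} [CommRing A] [IsLocalRing A] (a : List A) (x : A)
    (hx : x ∈ Ideal.ofList a) :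
    x ∈ maximalIdeal A • Ideal.ofList a ∨
      ∃ (c : A) (a' : List A) (y z : A), a.Perm (c :: a') ∧ IsUnit y ∧ z ∈ Ideal.ofList a' ∧
        x = y * c + z := by
  induction a generalizing x with
  | nil =>
    left
    simp only [Ideal.ofList_nil, Ideal.mem_bot] at hx
    subst hx
    exact zero_mem _
  | cons c l ih =>
    rw [Ideal.ofList_cons] at hx
    obtain ⟨w, hw, z, hz, rfl⟩ := Submodule.mem_sup.mp hx
    obtain ⟨y, rfl⟩ := Ideal.mem_span_singleton'.mp hw
    by_cases hy : IsUnit y
    · right
      exact ⟨c, l, y, z, List.Perm.refl _, hy, hz, rfl⟩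
    · rcases ih z hz with h | ⟨c', l', y', z', hp, hy', hz', rfl⟩
      · left
        refine add_mem ?_ ?_
        · refine Submodule.smul_mem_smul ?_ ?_
          · exact (mem_maximalIdeal y).mpr hy
          · exact Ideal.subset_span (by simp)
        · refine Submodule.smul_mono le_rfl ?_ h
          rw [Ideal.ofList_cons]
          exact le_sup_right
      · right
        refine ⟨c', c :: l', y', y * c + z', ?_, hy', ?_, by ring⟩
        · exact (List.Perm.cons c hp).trans (List.Perm.swap _ _ _)
        · rw [Ideal.ofList_cons]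
          exact Submodule.add_mem_sup (Ideal.mem_span_singleton'.mpr ⟨y, rfl⟩) hz'

lemma ofList_ne_top {A : Type u} [CommRing A] {a : List A} (ha : RingTheory.Sequence.IsRegular A a) :
    Ideal.ofList a ≠ ⊤ := by
  intro h
  apply ha.top_ne_smul
  rw [h, Submodule.top_smul]

lemma ofList_perm {A : Type u} [CommRing A] {a b : List A} (h : a.Perm b) :
    Ideal.ofList a = Ideal.ofList b :=
  congrArg Ideal.span (Set.ext fun _ => h.mem_iff)

/-- an `M`-regular sequence of length `n + 1` generates an ideal that cannot be generated by `n` elements -/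
lemma not_eq_of_length_lt {A : Type u} [CommRing A] [IsLocalRing A] [IsNoetherianRing A]
    {a b : List A} (ha : RingTheory.Sequence.IsRegular A a) (hl : b.length < a.length) :
    Ideal.ofList a ≠ Ideal.ofList b := by
  classical
  intro h
  have h1 := ringKrullDim_add_length_eq_ringKrullDim_of_isRegular a ha
  have hne := ofList_ne_top ha
  have h2 := ringKrullDim_le_ringKrullDim_quotient_add_card (R := A) b.toFinset (by
    rw [IsLocalRing.ringJacobson_eq_maximalIdeal]
    intro x hx
    have hx' : x ∈ Ideal.ofList b := Ideal.subset_span (by simpa using hx)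
    exact le_maximalIdeal (h ▸ hne) hx')
  have h3 : Ideal.span (b.toFinset : Set A) = Ideal.ofList b := by
    unfold Ideal.ofList
    congr 1
    ext x
    simp
  rw [h3, ← h, ← h1] at h2
  have h4 : (b.toFinset.card : WithBot ℕ∞) ≤ b.length := by
    exact_mod_cast List.toFinset_card_le b
  have h5 : ringKrullDim (A ⧸ Ideal.ofList a) + a.length ≤
      ringKrullDim (A ⧸ Ideal.ofList a) + b.length :=
    h2.trans (add_le_add le_rfl h4)
  have : Nontrivial (A ⧸ Ideal.ofList a) := Ideal.Quotient.nontrivial_iff.mpr hne
  have : IsLocalRing (A ⧸ Ideal.ofList a) :=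
    IsLocalRing.of_surjective' _ Ideal.Quotient.mk_surjective
  obtain ⟨d, hd⟩ : ∃ d : ℕ, ringKrullDim (A ⧸ Ideal.ofList a) = d := by
    have h6 : ringKrullDim (A ⧸ Ideal.ofList a) ≠ ⊥ := ringKrullDim_ne_bot
    have h7 : ringKrullDim (A ⧸ Ideal.ofList a) ≠ ⊤ := ringKrullDim_ne_top
    obtain ⟨d', hd'⟩ := WithBot.ne_bot_iff_exists.mp h6
    have h8 : d' ≠ ⊤ := by
      rintro rfl
      exact h7 hd'.symm
    obtain ⟨d, hd⟩ := ENat.ne_top_iff_exists.mp h8
    exact ⟨d, by rw [← hd', ← hd]; rfl⟩
  rw [hd] at h5
  have : d + a.length ≤ d + b.length := by exact_mod_cast h5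
  omega


lemma isRegular_replace {A : Type u} [CommRing A] [IsLocalRing A] [IsNoetherianRing A]
    {a' : List A} {c x y z : A} (h : RingTheory.Sequence.IsRegular A (c :: a')) (hy : IsUnit y)
    (hz : z ∈ Ideal.ofList a') (hx : x = y * c + z) :
    RingTheory.Sequence.IsRegular A (x :: a') := by
  have hperm : ∀ t : A, (a' ++ [t]).Perm (t :: a') := fun t => List.perm_append_singleton t a'
  have h1 : RingTheory.Sequence.IsRegular A (a' ++ [c]) := isRegular_of_perm h (hperm c).symm
  have h2 : IsWeaklyRegular A (a' ++ [x]) := by
    rw [isWeaklyRegular_append_iff]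
    have h3 := (isWeaklyRegular_append_iff _ _ _).mp h1.toIsWeaklyRegular
    refine ⟨h3.1, ?_⟩
    rw [isWeaklyRegular_singleton_iff]
    have h4 := (isWeaklyRegular_singleton_iff _ _).mp h3.2
    have h5 : ∀ m : A ⧸ (Ideal.ofList a' • (⊤ : Submodule A A)), x • m = y • (c • m) := by
      intro m
      obtain ⟨m, rfl⟩ := Submodule.Quotient.mk_surjective _ m
      rw [← Submodule.Quotient.mk_smul, ← Submodule.Quotient.mk_smul, ← Submodule.Quotient.mk_smul,
        Submodule.Quotient.eq]
      have : x • m - y • c • m = z • m := by
        simp only [smul_eq_mul, hx]; ring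
      rw [this]
      exact Submodule.smul_mem_smul hz trivial
    intro m m' hmm
    simp only [h5] at hmm
    exact h4 (hy.smul_left_cancel.mp hmm)
  have hm : ∀ r ∈ (a' ++ [x]), r ∈ maximalIdeal A := by
    have htop : Ideal.ofList (c :: a') ≤ maximalIdeal A := le_maximalIdeal (ofList_ne_top h)
    have ha' : Ideal.ofList a' ≤ maximalIdeal A := by
      refine le_trans ?_ htop
      rw [Ideal.ofList_cons]
      exact le_sup_right
    intro r hr
    rw [List.mem_append, List.mem_singleton] at hr
    rcases hr with hr | rfl
    · exact ha' (Ideal.subset_span hr)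
    · rw [hx]
      refine add_mem (Ideal.mul_mem_left _ _ (htop (Ideal.subset_span (by simp)))) (ha' hz)
  exact isRegular_of_perm (IsRegular.of_isWeaklyRegular_of_mem_maximalIdeal A hm h2) (hperm x)

lemma ofList_replace {A : Type u} [CommRing A]
    {a' : List A} {c x y z : A} (hy : IsUnit y)
    (hz : z ∈ Ideal.ofList a') (hx : x = y * c + z) :
    Ideal.ofList (x :: a') = Ideal.ofList (c :: a') := by
  rw [Ideal.ofList_cons, Ideal.ofList_cons]
  apply le_antisymm
  · refine sup_le ?_ le_sup_right
    rw [Ideal.span_singleton_le_iff_mem, hx]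
    exact Submodule.add_mem_sup (Ideal.mem_span_singleton'.mpr ⟨y, rfl⟩) hz
  · refine sup_le ?_ le_sup_right
    rw [Ideal.span_singleton_le_iff_mem]
    obtain ⟨u, rfl⟩ := hy
    have : c = (↑u⁻¹ * x) + (- (↑u⁻¹ * z)) := by
      rw [hx, mul_add, ← mul_assoc, Units.inv_mul, one_mul]; ring
    rw [this]
    exact Submodule.add_mem_sup (Ideal.mem_span_singleton'.mpr ⟨_, rfl⟩)
      (neg_mem (Ideal.mul_mem_left _ _ hz))

/-- `IsRegular` for a cons list, in terms of the quotient ring. -/
lemma isRegular_cons_quot {A : Type u} [CommRing A] (x : A) (l : List A) :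
    RingTheory.Sequence.IsRegular A (x :: l) ↔ IsSMulRegular A x ∧
      RingTheory.Sequence.IsRegular (A ⧸ Ideal.span {x}) (l.map (Ideal.Quotient.mk (Ideal.span {x}))) := by
  rw [isRegular_cons_iff']
  refine and_congr_right' ?_
  have h : (x • (⊤ : Submodule A A)) = Ideal.span {x} := by
    rw [← Submodule.ideal_span_singleton_smul]; simp
  let e : (QuotSMulTop x A) ≃ₗ[A] (A ⧸ Ideal.span {x}) := Submodule.quotEquivOfEq _ _ h
  exact LinearEquiv.isRegular_congr
    (e.extendScalarsOfSurjective (Ideal.Quotient.mk_surjective (I := Ideal.span {x}))) _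

/-- RRA Ch. IV Lemma 2.6: in a Noetherian local ring any `n` generators of an ideal generated by a regular
sequence of length `n` form a regular sequence. -/
theorem isRegular_of_ofList_eq (n : ℕ) : ∀ {A : Type u} [CommRing A] [IsLocalRing A]
    [IsNoetherianRing A] (a b : List A), a.length = n → b.length = n →
    RingTheory.Sequence.IsRegular A a → Ideal.ofList a = Ideal.ofList b →
    RingTheory.Sequence.IsRegular A b := by
  induction n with
  | zero =>
    intro A _ _ _ a b _ hb _ _
    rw [List.length_eq_zero_iff] at hb
    subst hb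
    exact IsRegular.nil A A
  | succ n ih =>
    intro A _ _ _ a b hla hlb ha hab
    cases b with
    | nil => simp at hlb
    | cons x bs =>
      have hlbs : bs.length = n := by simpa using hlb
      have hx : x ∈ Ideal.ofList a := by
        rw [hab]; exact Ideal.subset_span (by simp)
      rcases mem_ofList_dichotomy a x hx with h | ⟨c, a', y, z, hp, hy, hz, hxyz⟩
      · exfalso
        have h1 : Ideal.ofList a ≤ Ideal.ofList bs := by
          refine Submodule.le_of_le_smul_of_le_jacobson_bot (I := maximalIdeal A)
            (N := Ideal.ofList bs) (N' := Ideal.ofList a) (IsNoetherian.noetherian _)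
            (by rw [IsLocalRing.jacobson_eq_maximalIdeal _ bot_ne_top]) ?_
          conv_lhs => rw [hab, Ideal.ofList_cons]
          refine sup_le ?_ le_sup_left
          rw [Ideal.span_singleton_le_iff_mem]
          exact Submodule.mem_sup_right h
        have h2 : Ideal.ofList a = Ideal.ofList bs := by
          refine le_antisymm h1 ?_
          rw [hab, Ideal.ofList_cons]
          exact le_sup_right
        exact not_eq_of_length_lt ha (by omega) h2
      · have h1 : RingTheory.Sequence.IsRegular A (x :: a') :=
          isRegular_replace (isRegular_of_perm ha hp) hy hz hxyz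
        have h2 : Ideal.ofList (x :: a') = Ideal.ofList (x :: bs) := by
          rw [ofList_replace hy hz hxyz, ← ofList_perm hp, hab]
        rw [isRegular_cons_quot] at h1 ⊢
        refine ⟨h1.1, ?_⟩
        have hxm : x ∈ maximalIdeal A := le_maximalIdeal (ofList_ne_top ha) hx
        have : Nontrivial (A ⧸ Ideal.span {x}) := Ideal.Quotient.nontrivial_iff.mpr (by
          intro h
          exact hxm (Ideal.span_singleton_eq_top.mp h))
        have : IsLocalRing (A ⧸ Ideal.span {x}) :=
          IsLocalRing.of_surjective' _ Ideal.Quotient.mk_surjective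
        refine ih (a'.map (Ideal.Quotient.mk (Ideal.span {x})))
          (bs.map (Ideal.Quotient.mk (Ideal.span {x}))) ?_ ?_ h1.2 ?_
        · have := hp.length_eq
          simp only [List.length_cons, List.length_map] at this ⊢
          omega
        · simpa using hlbs
        · rw [← Ideal.map_ofList, ← Ideal.map_ofList]
          have h3 : ∀ l : List A, Ideal.map (Ideal.Quotient.mk (Ideal.span {x})) (Ideal.ofList l) =
              Ideal.map (Ideal.Quotient.mk (Ideal.span {x})) (Ideal.ofList (x :: l)) := by
            intro l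
            rw [Ideal.ofList_cons, Ideal.map_sup, Ideal.map_quotient_self, bot_sup_eq]
          rw [h3 a', h3 bs, h2]

end Groth.Agent.MiscA.RegSeq
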