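import Groth.Agent.MiscA.PointCount
import Groth.Agent.MiscA.ZetaAbsCount
import Mathlib.AlgebraicGeometry.Morphisms.Finite
import Mathlib.AlgebraicGeometry.Morphisms.FiniteType

/-!
# Counting points of a scheme over a finite field by closed points
-/

set_option autoImplicit false
universe u v
open AlgebraicGeometry CategoryTheory

namespace Groth.Agent.MiscA.WCCount

/-- A point of finite positive degree is closed. -/
theorem isClosed_of_degree_pos {k : Type u} [Field k] {C : Scheme.{u}} (f : C ⟶ Spec (CommRingCat.of k))
    [LocallyOfFiniteType f] (x : C) (hx : 0 < PointCount.degree f x) : IsClosed ({x} : Set C) := by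
  have : JacobsonSpace C := LocallyOfFiniteType.jacobsonSpace f
  rw [isClosed_singleton_iff_locallyOfFiniteType]
  have h1 : LocallyOfFiniteType (C.fromSpecResidueField x ≫ f) := by
    rw [← PointCount.spec_map_resHom]
    let _ := (PointCount.resHom f x).toAlgebra
    have : Module.Finite k (C.residueField x) := Module.finite_of_finrank_pos hx
    rw [HasRingHomProperty.Spec_iff (P := @LocallyOfFiniteType)]
    exact RingHom.Finite.finiteType (this : (PointCount.resHom f x).Finite)
  exact locallyOfFiniteType_of_comp (C.fromSpecResidueField x) f

/-- The number of `k'`-points in terms of the closed points. -/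
theorem pointCount_eq_N {k : Type u} [Field k] [Finite k] {C : Scheme.{u}}
    (f : C ⟶ Spec (CommRingCat.of k)) [LocallyOfFiniteType f] [QuasiCompact f] {X : Type v}
    (e : X ≃ {x : C // IsClosed ({x} : Set C)}) (deg : X → ℕ)
    (hdeg : ∀ P, deg P = PointCount.degree f (e P).1)
    (k' : Type u) [Field k'] [Algebra k k'] [Finite k'] :
    SgaExt.pointCount f k' = ZetaAbsCount.N deg (Module.finrank k k') := by
  rw [PointCount.pointCount_eq, ZetaAbsCount.N]
  refine Finset.sum_congr rfl fun d hd => ?_
  have hd0 : 0 < d := Nat.pos_of_mem_divisors hd
  congr 1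
  rw [← Nat.card_coe_set_eq]
  refine Nat.card_congr ?_
  exact
    { toFun := fun x => ⟨e.symm ⟨x.1, isClosed_of_degree_pos f x.1 (by
          rw [show PointCount.degree f x.1 = d from x.2]; exact hd0)⟩, by
          rw [hdeg, Equiv.apply_symm_apply]; exact x.2⟩
      invFun := fun P => ⟨(e P.1).1, by
          rw [Set.mem_ofPred_eq, ← hdeg]; exact P.2⟩
      left_inv := fun x => by
        apply Subtype.ext
        simp
      right_inv := fun P => by
        apply Subtype.ext
        simp }

/-- The hypotheses of the abstract counting: the degree is positive on closed points. -/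
theorem degree_pos {k : Type u} [Field k] {C : Scheme.{u}}
    (f : C ⟶ Spec (CommRingCat.of k)) [LocallyOfFiniteType f] (x : C) (hx : IsClosed ({x} : Set C)) :
    0 < PointCount.degree f x := by
  have hcl : IsClosedImmersion (C.fromSpecResidueField x) := isClosed_singleton_iff_isClosedImmersion.mp hx
  have h1 : LocallyOfFiniteType (C.fromSpecResidueField x ≫ f) := inferInstance
  rw [← PointCount.spec_map_resHom] at h1
  let _ := (PointCount.resHom f x).toAlgebra
  rw [HasRingHomProperty.Spec_iff (P := @LocallyOfFiniteType)] at h1
  have h2 : Algebra.FiniteType k (C.residueField x) := h1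
  have h3 : Module.Finite k (C.residueField x) := finite_of_finite_type_of_isJacobsonRing k _
  exact Module.finrank_pos

end Groth.Agent.MiscA.WCCount
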