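import Groth.Agent.Fdesc.SepClosedIn
import Groth.Agent.MiscA.WCPlace
import Mathlib.FieldTheory.Finite.Basic
import Mathlib.FieldTheory.Perfect
import Mathlib.FieldTheory.SeparableClosure
import Mathlib.RingTheory.Localization.FractionRing

/-!
# Extension of the constants of a function field over a finite field to the algebraic closure
-/

set_option autoImplicit false
open TensorProduct Groth.Agent.MiscA.WCPlace

namespace Groth.Agent.MiscA.WCKbar1

universe u v w

section Field

variable {k : Type u} {Ω : Type w} {F : Type v} [Field k] [Field Ω] [Field F] [Algebra k Ω] [Algebra k F]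

theorem isField [PerfectField k] [Algebra.IsAlgebraic k Ω]
    (hk : ∀ x : F, IsAlgebraic k x → x ∈ (algebraMap k F).range) : IsField (Ω ⊗[k] F) := by
  have h1 : separableClosure k F = ⊥ := by
    rw [eq_bot_iff]
    intro x hx
    rw [mem_separableClosure_iff] at hx
    obtain ⟨c, hc⟩ := hk x hx.isIntegral.isAlgebraic
    exact IntermediateField.mem_bot.2 ⟨c, hc⟩
  have h2 : IsField (F ⊗[k] Ω) := Fdesc.SepClosedIn.isField_tensorProduct h1
  exact MulEquiv.isField h2 (Algebra.TensorProduct.comm k Ω F).toRingEquiv.toMulEquiv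

end Field

/-- The field `F ⊗ Ω` with its semilinear Frobenius. -/
theorem exists_cover (k : Type u) (Ω : Type w) (F : Type v) [Field k] [Finite k] [Field Ω] [Field F]
    [Algebra k Ω] [Algebra k F] [Algebra.IsAlgebraic k Ω]
    (hk : ∀ x : F, IsAlgebraic k x → x ∈ (algebraMap k F).range) :
    ∃ (M : Type (max v w)) (_ : Field M) (_ : Algebra k M) (_ : Algebra Ω M) (_ : Algebra F M)
      (_ : IsScalarTower k Ω M) (_ : IsScalarTower k F M) (ρ : M ≃+* M),
      (∀ x : M, x ∈ Submodule.span Ω (Set.range (algebraMap F M))) ∧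
      (∀ a : Ω, ρ (algebraMap Ω M a) = algebraMap Ω M (a ^ Nat.card k)) ∧
      (∀ f : F, ρ (algebraMap F M f) = algebraMap F M f) := by
  have hF : IsField (Ω ⊗[k] F) := isField hk
  have hdom : IsDomain (Ω ⊗[k] F) := hF.isDomain
  let _ := Fintype.ofFinite k
  let M := FractionRing (Ω ⊗[k] F)
  let iF : F →+* M := (algebraMap (Ω ⊗[k] F) M).comp
    (Algebra.TensorProduct.includeRight : F →ₐ[k] Ω ⊗[k] F).toRingHom
  let algF : Algebra F M := iF.toAlgebra
  have hbij : Function.Surjective (algebraMap (Ω ⊗[k] F) M) :=
    (hF.localization_map_bijective (M := nonZeroDivisors (Ω ⊗[k] F)) (fun h => by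
      simp at h)).2
  have ht1 : IsScalarTower k F M := IsScalarTower.of_algebraMap_eq fun c => by
    change algebraMap k M c = algebraMap (Ω ⊗[k] F) M (1 ⊗ₜ algebraMap k F c)
    rw [IsScalarTower.algebraMap_apply k (Ω ⊗[k] F) M]
    congr 1
    rw [Algebra.TensorProduct.algebraMap_apply]
    rw [Algebra.algebraMap_eq_smul_one, Algebra.algebraMap_eq_smul_one (A := F), TensorProduct.tmul_smul,
      TensorProduct.smul_tmul']
  let frob : Ω ≃ₐ[k] Ω := FiniteField.frobeniusAlgEquivOfAlgebraic k Ω
  let ρ₀ : (Ω ⊗[k] F) ≃ₐ[k] (Ω ⊗[k] F) := Algebra.TensorProduct.congr frob AlgEquiv.refl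
  let ρ : M ≃+* M := IsFractionRing.ringEquivOfRingEquiv ρ₀.toRingEquiv
  refine ⟨M, inferInstance, inferInstance, inferInstance, algF, inferInstance, ht1, ρ, ?_, ?_, ?_⟩
  · intro x
    obtain ⟨y, rfl⟩ := hbij x
    induction y using TensorProduct.induction_on with
    | zero => rw [map_zero]; exact Submodule.zero_mem _
    | tmul a f =>
      have : algebraMap (Ω ⊗[k] F) M (a ⊗ₜ f) = a • algebraMap F M f := by
        change _ = a • algebraMap (Ω ⊗[k] F) M (1 ⊗ₜ f)
        rw [Algebra.smul_def, IsScalarTower.algebraMap_apply Ω (Ω ⊗[k] F) M, ← map_mul]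
        congr 1
        rw [Algebra.TensorProduct.algebraMap_apply, Algebra.TensorProduct.tmul_mul_tmul, one_mul, mul_one]
        rfl
      rw [this]
      exact Submodule.smul_mem _ _ (Submodule.subset_span ⟨f, rfl⟩)
    | add y z hy hz => rw [map_add]; exact Submodule.add_mem _ hy hz
  · intro a
    have h1 : ∀ b : Ω, algebraMap Ω M b = algebraMap (Ω ⊗[k] F) M (b ⊗ₜ 1) := fun b => by
      rw [IsScalarTower.algebraMap_apply Ω (Ω ⊗[k] F) M]
      rfl
    rw [h1, h1]
    change IsFractionRing.ringEquivOfRingEquiv ρ₀.toRingEquiv (algebraMap (Ω ⊗[k] F) M (a ⊗ₜ 1)) = _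
    rw [IsFractionRing.ringEquivOfRingEquiv_algebraMap]
    congr 1
    change ρ₀ (a ⊗ₜ 1) = _
    rw [Algebra.TensorProduct.congr_apply, Algebra.TensorProduct.map_tmul, Nat.card_eq_fintype_card]
    rfl
  · intro f
    change IsFractionRing.ringEquivOfRingEquiv ρ₀.toRingEquiv (algebraMap (Ω ⊗[k] F) M (1 ⊗ₜ f)) =
      algebraMap (Ω ⊗[k] F) M (1 ⊗ₜ f)
    rw [IsFractionRing.ringEquivOfRingEquiv_algebraMap]
    congr 1
    change ρ₀ (1 ⊗ₜ f) = _
    rw [Algebra.TensorProduct.congr_apply, Algebra.TensorProduct.map_tmul, map_one]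
    rfl

section Props

variable {k : Type u} {Ω : Type w} {F : Type v} {M : Type*} [Field k] [Field Ω] [Field F] [Field M]
  [Algebra k Ω] [Algebra k F] [Algebra k M] [Algebra Ω M] [Algebra F M]
  [IsScalarTower k Ω M] [IsScalarTower k F M]

theorem isAlgebraic [Algebra.IsAlgebraic k Ω]
    (hgen : ∀ x : M, x ∈ Submodule.span Ω (Set.range (algebraMap F M))) : Algebra.IsAlgebraic F M := by
  constructor
  intro x
  rw [isAlgebraic_iff_isIntegral]
  have hx := hgen x
  induction hx using Submodule.span_induction with
  | mem x hx =>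
    obtain ⟨f, rfl⟩ := hx
    exact isIntegral_algebraMap
  | zero => exact isIntegral_zero
  | add x y _ _ hx hy => exact hx.add hy
  | smul a x _ hx =>
    rw [Algebra.smul_def]
    refine IsIntegral.mul ?_ hx
    have h1 : IsIntegral k a := Algebra.IsIntegral.isIntegral a
    exact (h1.map (IsScalarTower.toAlgHom k Ω M)).tower_top

theorem isSep [Algebra.IsAlgebraic k Ω]
    (hgen : ∀ x : M, x ∈ Submodule.span Ω (Set.range (algebraMap F M))) {t : F} (h : IsSep k F t) :
    IsSep Ω M (algebraMap F M t) := by
  classical
  have hmem : ∀ a : IntermediateField.adjoin k {t},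
      algebraMap F M a ∈ IntermediateField.adjoin Ω {algebraMap F M t} := by
    have h1 : (IntermediateField.adjoin k {t}).map (IsScalarTower.toAlgHom k F M) ≤
        (IntermediateField.adjoin Ω {algebraMap F M t}).restrictScalars k := by
      rw [IntermediateField.adjoin_map, Set.image_singleton, IntermediateField.adjoin_simple_le_iff]
      exact IntermediateField.mem_adjoin_simple_self Ω _
    intro a
    exact h1 ⟨a, a.2, rfl⟩
  let f : IntermediateField.adjoin k {t} →+* IntermediateField.adjoin Ω {algebraMap F M t} :=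
    ((algebraMap F M).comp (algebraMap (IntermediateField.adjoin k {t}) F)).codRestrict
      (IntermediateField.adjoin Ω {algebraMap F M t}) hmem
  let _ := f.toAlgebra
  have hst : IsScalarTower (IntermediateField.adjoin k {t})
      (IntermediateField.adjoin Ω {algebraMap F M t}) M := IsScalarTower.of_algebraMap_eq
      (fun _ => rfl)
  have hf := h.fin
  have hs := h.sep
  have hspan : ∀ f : F, ∀ S : Set F, f ∈ Submodule.span (IntermediateField.adjoin k {t}) S →
      algebraMap F M f ∈ Submodule.span (IntermediateField.adjoin Ω {algebraMap F M t})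
        (algebraMap F M '' S) := by
    intro f S hfS
    induction hfS using Submodule.span_induction with
    | mem x hx => exact Submodule.subset_span ⟨x, hx, rfl⟩
    | zero => rw [map_zero]; exact Submodule.zero_mem _
    | add x y _ _ hx hy => rw [map_add]; exact Submodule.add_mem _ hx hy
    | smul a x _ hx =>
      rw [Algebra.smul_def, map_mul]
      exact Submodule.smul_mem _ (⟨algebraMap F M a, hmem a⟩ :
        IntermediateField.adjoin Ω {algebraMap F M t}) hx
  obtain ⟨S, hS⟩ := hf.fg_top
  have htop : Submodule.span (IntermediateField.adjoin Ω {algebraMap F M t})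
      ((S.image (algebraMap F M) : Finset M) : Set M) = ⊤ := by
    rw [eq_top_iff]
    intro x _
    have hx := hgen x
    induction hx using Submodule.span_induction with
    | mem x hx =>
      obtain ⟨f, rfl⟩ := hx
      rw [Finset.coe_image]
      exact hspan f S (by rw [hS]; trivial)
    | zero => exact Submodule.zero_mem _
    | add x y _ _ hx hy => exact Submodule.add_mem _ (hx trivial) (hy trivial)
    | smul a x _ hx =>
      have := Submodule.smul_mem _ (algebraMap Ω (IntermediateField.adjoin Ω {algebraMap F M t}) a)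
        (hx trivial)
      rwa [algebraMap_smul] at this
  refine ⟨?_, ⟨⟨_, htop⟩⟩, ?_⟩
  · intro h2
    apply h.tr
    rw [← isAlgebraic_algebraMap_iff (algebraMap F M).injective (R := k)]
    exact h2.restrictScalars k
  · rw [← separableClosure.eq_top_iff, eq_top_iff]
    intro x _
    have hx : x ∈ Submodule.span (IntermediateField.adjoin Ω {algebraMap F M t})
      ((S.image (algebraMap F M) : Finset M) : Set M) := by rw [htop]; trivial
    induction hx using Submodule.span_induction with
    | mem x hx =>
      rw [Finset.coe_image] at hx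
      obtain ⟨f, -, rfl⟩ := hx
      rw [mem_separableClosure_iff]
      have h3 : IsSeparable (IntermediateField.adjoin k {t}) f := hs.isSeparable _ f
      have h4 : IsSeparable (IntermediateField.adjoin k {t}) (algebraMap F M f) := by
        have hst2 : IsScalarTower (IntermediateField.adjoin k {t}) F M :=
          IsScalarTower.of_algebraMap_eq (fun _ => rfl)
        rw [IsSeparable, minpoly.algebraMap_eq (algebraMap F M).injective]
        exact h3
      exact h4.tower_top _
    | zero => exact zero_mem _
    | add x y _ _ hx hy => exact add_mem (hx trivial) (hy trivial)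
    | smul a x _ hx => exact (separableClosure _ M).smul_mem (hx trivial)

end Props

end Groth.Agent.MiscA.WCKbar1
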