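import Groth.Agent.MiscA.WCKbar1
import Groth.Agent.MiscA.WCPlaceRes
import Groth.Agent.Cohder.HWLine
import Mathlib.FieldTheory.PrimitiveElement

/-!
# Places of a constant field extension: a place is determined by its residue embedding
-/

set_option autoImplicit false
open WithZero Polynomial

namespace Groth.Agent.MiscA.WCKbar2

open Groth.Agent.MiscA.WCPlace Groth.Agent.MiscA.WCPlaceRes Groth.Agent.Cohder.HWLine

universe u v w x

variable {k : Type u} {Ω : Type w} {F : Type v} {M : Type x} [Field k] [Field Ω] [Field F] [Field M]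
  [Algebra k Ω] [Algebra k F] [Algebra k M] [Algebra Ω M] [Algebra F M]
  [IsScalarTower k Ω M] [IsScalarTower k F M]

/-- Restriction of places to a subfield with smaller constants. -/
def res (k : Type u) (F : Type v) [Field k] [Field F] [Algebra k Ω] [Algebra k F] [Algebra k M]
    [Algebra F M] [IsScalarTower k Ω M] [IsScalarTower k F M] [Algebra.IsAlgebraic F M]
    (P : Place Ω M) : Place k F :=
  ⟨P.1.comap (algebraMap F M), by
    intro htop
    apply P.2.1
    rw [eq_top_iff]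
    intro x _
    refine mem_of_isIntegral (R := F) P.1 (fun r => ?_) (Algebra.IsIntegral.isIntegral x)
    have : r ∈ P.1.comap (algebraMap F M) := by
      rw [htop]
      exact ValuationSubring.mem_top _
    exact this, fun a => by
    rw [ValuationSubring.mem_comap, ← IsScalarTower.algebraMap_apply k F M,
      IsScalarTower.algebraMap_apply k Ω M]
    exact P.2.2 _⟩

theorem mem_res [Algebra.IsAlgebraic F M] (P : Place Ω M) (f : F) :
    f ∈ (res k F P).1 ↔ algebraMap F M f ∈ P.1 := Iff.rfl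

omit [Algebra k Ω] [Algebra k F] [Algebra k M] [IsScalarTower k Ω M] [IsScalarTower k F M] in
theorem mem_of_rel {t : M} (h : IsSep Ω M t) (P : Place Ω M) {f : F} {a : Ω}
    (hfa : P.val (algebraMap F M f - algebraMap Ω M a) < 1) : algebraMap F M f ∈ P.1 := by
  have h1 := (h.val_le_one_iff P _).1 hfa.le
  have h2 := P.1.add_mem _ _ h1 (P.2.2 a)
  rwa [sub_add_cancel] at h2

theorem aeval_mem {R S : Type*} [CommRing R] [CommRing S] [Algebra R S] (B : Subalgebra R S) {a : S}
    (ha : a ∈ B) (H : Polynomial R) : aeval a H ∈ B := by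
  have : aeval a H = ((aeval (⟨a, ha⟩ : B) H : B) : S) := aeval_algebraMap_apply S (⟨a, ha⟩ : B) H
  rw [this]
  exact (aeval (⟨a, ha⟩ : B) H).2

section Key

variable [Algebra.IsAlgebraic F M]

/-- A place of `M = FΩ` is determined by the residue embedding of its restriction to `F`. -/
theorem ext_of_rel [PerfectField k] [IsAlgClosed Ω] {t : F} (ht : IsSep k F t) {t' : M}
    (hM : IsSep Ω M t') (hgen : ∀ x : M, x ∈ Submodule.span Ω (Set.range (algebraMap F M)))
    (P Q : Place Ω M)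
    (h : ∀ (f : F) (a : Ω), P.val (algebraMap F M f - algebraMap Ω M a) < 1 ↔
      Q.val (algebraMap F M f - algebraMap Ω M a) < 1) : P = Q := by
  classical
  -- the common restriction
  set P₀ : Place k F := res k F P with hP₀
  have hO : ∀ f : F, f ∈ P₀.1 ↔ algebraMap F M f ∈ P.1 := fun f => Iff.rfl
  have hOQ : ∀ f : F, f ∈ P₀.1 ↔ algebraMap F M f ∈ Q.1 := by
    intro f
    rw [hO]
    constructor
    · intro hf
      obtain ⟨a, ha⟩ := exists_val_sub_lt_one hM P hf
      exact mem_of_rel hM Q ((h f a).1 ha)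
    · intro hf
      obtain ⟨a, ha⟩ := exists_val_sub_lt_one hM Q hf
      exact mem_of_rel hM P ((h f a).2 ha)
  obtain ⟨π, hπ⟩ := ht.exists_val_eq P₀ (-1)
  have hπ0 : π ≠ 0 := by
    rintro rfl
    rw [map_zero] at hπ
    exact exp_ne_zero hπ.symm
  have hdiv : ∀ f : F, P₀.val f < 1 → ∃ g ∈ P₀.1, f = π * g := by
    intro f hf
    refine ⟨π⁻¹ * f, ?_, by rw [mul_inv_cancel_left₀ hπ0]⟩
    rw [← ht.val_le_one_iff, map_mul, map_inv₀, hπ]
    by_cases h0 : P₀.val f = 0
    · rw [h0, mul_zero]; exact zero_le_one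
    · rw [← exp_log h0] at hf ⊢
      rw [← exp_zero, exp_lt_exp] at hf
      rw [← exp_neg, ← exp_add, ← exp_zero, exp_le_exp]
      omega
  -- the residue field
  have hfinκ : Module.Finite k (IsLocalRing.ResidueField P₀.1) := finite_residueField ⟨t, ht⟩ P₀
  obtain ⟨α, hα⟩ := Field.exists_primitive_element k (IsLocalRing.ResidueField P₀.1)
  obtain ⟨a, ha⟩ := IsLocalRing.residue_surjective α
  have hres : ∀ f : P₀.1, ∃ H : k[X], ∃ g ∈ P₀.1, (f : F) = aeval (a : F) H + π * g := by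
    intro f
    have h1 : IsLocalRing.residue P₀.1 f ∈ IntermediateField.adjoin k {α} := by
      rw [hα]; exact IntermediateField.mem_top
    rw [← IntermediateField.mem_toSubalgebra, IntermediateField.adjoin_simple_toSubalgebra_of_isAlgebraic
      (Algebra.IsAlgebraic.isAlgebraic α), Algebra.adjoin_singleton_eq_range_aeval] at h1
    obtain ⟨H, hH⟩ := h1
    have h2 : f - aeval a H ∈ IsLocalRing.maximalIdeal P₀.1 := by
      rw [← IsLocalRing.residue_eq_zero_iff, map_sub, sub_eq_zero, ← hH]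
      have : IsLocalRing.residue P₀.1 (aeval a H) = aeval (IsLocalRing.residue P₀.1 a) H :=
        (aeval_algebraMap_apply (IsLocalRing.ResidueField P₀.1) a H).symm
      rw [this, ha]
      rfl
    rw [mem_maximalIdeal_iff ht] at h2
    obtain ⟨g, hg, hfg⟩ := hdiv _ h2
    refine ⟨H, g, hg, ?_⟩
    rw [← hfg]
    have h3 : ((aeval a H : P₀.1) : F) = aeval (a : F) H :=
      (aeval_algebraMap_apply F a H).symm
    push_cast
    rw [h3]
    ring
  -- the ring `B`
  let B : Subalgebra Ω M := Algebra.adjoin Ω (algebraMap F M '' {f : F | f ∈ P₀.1})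
  have hBmem : ∀ f ∈ P₀.1, algebraMap F M f ∈ B := fun f hf =>
    Algebra.subset_adjoin ⟨f, hf, rfl⟩
  have hBV : ∀ V : Place Ω M, (∀ f : F, f ∈ P₀.1 → algebraMap F M f ∈ V.1) → ∀ b ∈ B, V.val b ≤ 1 := by
    intro V hV b hb
    rw [hM.val_le_one_iff]
    have : B ≤ (⟨V.1.toSubring.toSubsemiring, V.2.2⟩ : Subalgebra Ω M) := by
      refine Algebra.adjoin_le ?_
      rintro _ ⟨f, hf, rfl⟩
      exact hV f hf
    exact this hb
  have hπO : π ∈ P₀.1 := by
    rw [← ht.val_le_one_iff, hπ, ← exp_zero, exp_le_exp]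
    omega
  have hπinv : π⁻¹ ∉ P₀.1 := by
    rw [← ht.val_le_one_iff, map_inv₀, hπ, ← exp_neg, ← exp_zero, exp_le_exp]
    omega
  set ϖ : M := algebraMap F M π with hϖ
  have hϖ0 : ϖ ≠ 0 := by simpa [hϖ] using hπ0
  set A : M := algebraMap F M a with hA
  -- claim 1
  have claim1 : ∀ b ∈ B, ∃ H : Polynomial Ω, ∃ b' ∈ B, b = aeval A H + ϖ * b' := by
    have hAB : ∀ H : Polynomial Ω, aeval A H ∈ B := fun H => by
      exact aeval_mem B (hBmem _ a.2) H
    intro b hb
    induction hb using Algebra.adjoin_induction with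
    | mem x hx =>
      obtain ⟨f, hf, rfl⟩ := hx
      obtain ⟨H, g, hg, hfg⟩ := hres ⟨f, hf⟩
      refine ⟨H.map (algebraMap k Ω), algebraMap F M g, hBmem g hg, ?_⟩
      have : (f : F) = aeval (a : F) H + π * g := hfg
      rw [this, map_add, map_mul, aeval_map_algebraMap, hA, aeval_algebraMap_apply]
    | algebraMap r =>
      exact ⟨C r, 0, zero_mem _, by rw [aeval_C, mul_zero, add_zero]⟩
    | add x y _ _ hx hy =>
      obtain ⟨H₁, b₁, hb₁, h₁⟩ := hx
      obtain ⟨H₂, b₂, hb₂, h₂⟩ := hy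
      exact ⟨H₁ + H₂, b₁ + b₂, add_mem hb₁ hb₂, by rw [h₁, h₂, map_add]; ring⟩
    | mul x y _ _ hx hy =>
      obtain ⟨H₁, b₁, hb₁, h₁⟩ := hx
      obtain ⟨H₂, b₂, hb₂, h₂⟩ := hy
      refine ⟨H₁ * H₂, b₁ * aeval A H₂ + aeval A H₁ * b₂ + ϖ * b₁ * b₂, ?_, by
        rw [h₁, h₂, map_mul]; ring⟩
      exact add_mem (add_mem (mul_mem hb₁ (hAB _)) (mul_mem (hAB _) hb₂))
        (mul_mem (mul_mem (hBmem _ hπO) hb₁) hb₂)
  -- the value of `A`
  obtain ⟨c₀, hc₀⟩ := exists_val_sub_lt_one hM P (show A ∈ P.1 from (hO _).1 a.2)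
  have hc₀Q : Q.val (A - algebraMap Ω M c₀) < 1 := (h _ _).1 hc₀
  have hAB : ∀ H : Polynomial Ω, aeval A H ∈ B := fun H => aeval_mem B (hBmem _ a.2) H
  -- evaluation of polynomials
  have heval : ∀ V : Place Ω M, (∀ f : F, f ∈ P₀.1 → algebraMap F M f ∈ V.1) →
      V.val (A - algebraMap Ω M c₀) < 1 → ∀ H : Polynomial Ω, V.val (aeval A H) < 1 ↔ H.eval c₀ = 0 := by
    intro V hV hVc H
    obtain ⟨H₁, hH₁⟩ : (X - C c₀) ∣ H - C (H.eval c₀) := X_sub_C_dvd_sub_C_eval
    have h1 : aeval A H = algebraMap Ω M (H.eval c₀) + (A - algebraMap Ω M c₀) * aeval A H₁ := by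
      have := congrArg (aeval A) hH₁
      rw [map_sub, map_mul, map_sub, aeval_X, aeval_C, aeval_C] at this
      rw [← this]; ring
    have h2 : V.val ((A - algebraMap Ω M c₀) * aeval A H₁) < 1 := by
      rw [map_mul]
      exact mul_lt_one_of_lt_of_le hVc (hBV V hV _ (hAB H₁))
    constructor
    · intro hlt
      by_contra hne
      have h3 : V.val (algebraMap Ω M (H.eval c₀)) < 1 := by
        have : algebraMap Ω M (H.eval c₀) = aeval A H - (A - algebraMap Ω M c₀) * aeval A H₁ := by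
          rw [h1]; ring
        rw [this]
        exact lt_of_le_of_lt (V.val.map_sub _ _) (max_lt hlt h2)
      rw [val_algebraMap hM V hne] at h3
      exact lt_irrefl _ h3
    · intro h0
      rw [h1, h0, map_zero, zero_add]
      exact h2
  have hVP : ∀ f : F, f ∈ P₀.1 → algebraMap F M f ∈ P.1 := fun f hf => (hO f).1 hf
  have hVQ : ∀ f : F, f ∈ P₀.1 → algebraMap F M f ∈ Q.1 := fun f hf => (hOQ f).1 hf
  have hϖV : ∀ V : Place Ω M, (∀ f : F, f ∈ P₀.1 ↔ algebraMap F M f ∈ V.1) → V.val ϖ < 1 := by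
    intro V hV
    rw [hϖ, val_lt_one_iff hM V hϖ0, ← map_inv₀, ← hV]
    exact hπinv
  have hϖP := hϖV P hO
  have hϖQ := hϖV Q hOQ
  -- the polynomial `G`
  let g : k[X] := minpoly k α
  let G : Polynomial Ω := g.map (algebraMap k Ω)
  have hgs : ∃ s ∈ P₀.1, aeval (a : F) g = π * s := by
    apply hdiv
    have h3 : ((aeval a g : P₀.1) : F) = aeval (a : F) g := (aeval_algebraMap_apply F a g).symm
    rw [← h3, ← mem_maximalIdeal_iff ht, ← IsLocalRing.residue_eq_zero_iff]
    have : IsLocalRing.residue P₀.1 (aeval a g) = aeval (IsLocalRing.residue P₀.1 a) g :=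
      (aeval_algebraMap_apply (IsLocalRing.ResidueField P₀.1) a g).symm
    rw [this, ha]
    exact minpoly.aeval k α
  obtain ⟨s, hs, hgs⟩ := hgs
  have hGA : aeval A G = ϖ * algebraMap F M s := by
    change aeval A (g.map (algebraMap k Ω)) = _
    rw [aeval_map_algebraMap, hA, aeval_algebraMap_apply, hgs, map_mul]
  have hG0 : G.eval c₀ = 0 := by
    rw [← heval P hVP hc₀, hGA, map_mul]
    exact mul_lt_one_of_lt_of_le hϖP ((hM.val_le_one_iff P _).2 (hVP s hs))
  obtain ⟨G₁, hG₁⟩ : (X - C c₀) ∣ G := dvd_iff_isRoot.2 hG0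
  have hG₁0 : G₁.eval c₀ ≠ 0 := by
    have hsep : G.Separable := by
      have : (minpoly k α).Separable := Algebra.IsSeparable.isSeparable k α
      exact this.map
    have h1 := hsep.eval₂_derivative_ne_zero (RingHom.id Ω) (x := c₀) (by rw [eval₂_id]; exact hG0)
    rw [eval₂_id, hG₁, derivative_mul, derivative_sub, derivative_X, derivative_C, sub_zero, one_mul,
      eval_add, eval_mul, eval_sub, eval_X, eval_C, sub_self, zero_mul, add_zero] at h1
    exact h1
  set e : M := aeval A G₁ with he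
  have heV : ∀ V : Place Ω M, (∀ f : F, f ∈ P₀.1 → algebraMap F M f ∈ V.1) →
      V.val (A - algebraMap Ω M c₀) < 1 → V.val e = 1 := by
    intro V hV hVc
    refine le_antisymm (hBV V hV _ (hAB _)) ?_
    rw [← not_lt, he, heval V hV hVc]
    exact hG₁0
  -- claim 3
  have hequiv : ∀ V : Place Ω M, (∀ f : F, f ∈ P₀.1 → algebraMap F M f ∈ V.1) →
      V.val (A - algebraMap Ω M c₀) < 1 → V.val ϖ < 1 → ∀ (H : Polynomial Ω), ∀ b' ∈ B,
        (V.val (aeval A H + ϖ * b') < 1 ↔ H.eval c₀ = 0) := by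
    intro V hV hVc hVϖ H b' hb'
    rw [← heval V hV hVc]
    have h2 : V.val (ϖ * b') < 1 := by
      rw [map_mul]
      exact mul_lt_one_of_lt_of_le hVϖ (hBV V hV _ hb')
    constructor
    · intro h3
      have : aeval A H = (aeval A H + ϖ * b') - ϖ * b' := by ring
      rw [this]
      exact lt_of_le_of_lt (V.val.map_sub _ _) (max_lt h3 h2)
    · intro h3
      exact lt_of_le_of_lt (V.val.map_add _ _) (max_lt h3 h2)
  have hiff : ∀ b ∈ B, P.val b < 1 ↔ Q.val b < 1 := by
    intro b hb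
    obtain ⟨H, b', hb', rfl⟩ := claim1 b hb
    rw [hequiv P hVP hc₀ hϖP H b' hb', hequiv Q hVQ hc₀Q hϖQ H b' hb']
  have claim3 : ∀ b ∈ B, P.val b < 1 → ∃ b₁ ∈ B, e * b = ϖ * b₁ := by
    intro b hb hlt
    obtain ⟨H, b', hb', rfl⟩ := claim1 b hb
    rw [hequiv P hVP hc₀ hϖP H b' hb'] at hlt
    obtain ⟨H₁, hH₁⟩ : (X - C c₀) ∣ H := dvd_iff_isRoot.2 hlt
    refine ⟨algebraMap F M s * aeval A H₁ + e * b',
      add_mem (mul_mem (hBmem _ hs) (hAB _)) (mul_mem (hAB _) hb'), ?_⟩
    have h1 : e * aeval A H = aeval A G * aeval A H₁ := by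
      rw [he, ← map_mul, ← map_mul, hH₁, hG₁]
      congr 1
      ring
    rw [mul_add, h1, hGA]
    ring
  -- claim 5
  have claim5 : ∀ (n : ℕ), ∀ b ∈ B, exp (-(n : ℤ)) ≤ P.val b →
      ∃ m : ℕ, P.val b = P.val ϖ ^ m ∧ Q.val b = Q.val ϖ ^ m := by
    intro n
    induction n with
    | zero =>
      intro b hb hn
      have h1 : P.val b = 1 := le_antisymm (hBV P hVP b hb) (by simpa using hn)
      have h2 : Q.val b = 1 := by
        refine le_antisymm (hBV Q hVQ b hb) ?_
        rw [← not_lt, ← hiff b hb, h1]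
        exact lt_irrefl _
      exact ⟨0, by rw [h1, pow_zero], by rw [h2, pow_zero]⟩
    | succ n ih =>
      intro b hb hn
      by_cases hlt : P.val b < 1
      · obtain ⟨b₁, hb₁, heb⟩ := claim3 b hb hlt
        have hP1 : P.val b = P.val ϖ * P.val b₁ := by
          rw [← map_mul, ← heb, map_mul, heV P hVP hc₀, one_mul]
        have hQ1 : Q.val b = Q.val ϖ * Q.val b₁ := by
          rw [← map_mul, ← heb, map_mul, heV Q hVQ hc₀Q, one_mul]
        have hϖP' : P.val ϖ ≤ exp (-1 : ℤ) := by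
          have h0 : P.val ϖ ≠ 0 := (Valuation.ne_zero_iff _).2 hϖ0
          rw [← exp_log h0, ← exp_zero, exp_lt_exp] at hϖP
          rw [← exp_log h0, exp_le_exp]
          omega
        have hb₁n : exp (-(n : ℤ)) ≤ P.val b₁ := by
          have h2 : exp (-((n + 1 : ℕ) : ℤ)) ≤ exp (-1 : ℤ) * P.val b₁ := by
            refine hn.trans ?_
            rw [hP1]
            gcongr
          have h3 : exp (-((n + 1 : ℕ) : ℤ)) = exp (-1 : ℤ) * exp (-(n : ℤ)) := by
            rw [← exp_add]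
            congr 1
            push_cast
            ring
          rw [h3] at h2
          exact (mul_le_mul_iff_right₀ (by simp)).1 h2
        obtain ⟨m, h4, h5⟩ := ih b₁ hb₁ hb₁n
        exact ⟨m + 1, by rw [hP1, h4, pow_succ'], by rw [hQ1, h5, pow_succ']⟩
      · have h1 : P.val b = 1 := le_antisymm (hBV P hVP b hb) (not_lt.1 hlt)
        have h2 : Q.val b = 1 := by
          refine le_antisymm (hBV Q hVQ b hb) ?_
          rw [← not_lt, ← hiff b hb, h1]
          exact lt_irrefl _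
        exact ⟨0, by rw [h1, pow_zero], by rw [h2, pow_zero]⟩
  -- claim 6
  have claim6 : ∀ y : M, ∃ N : ℕ, ϖ ^ N * y ∈ B := by
    intro y
    have hy := hgen y
    induction hy using Submodule.span_induction with
    | mem y hy =>
      obtain ⟨f, rfl⟩ := hy
      by_cases hf : f = 0
      · exact ⟨0, by rw [hf, map_zero, mul_zero]; exact zero_mem _⟩
      have hf0 : P₀.val f ≠ 0 := (Valuation.ne_zero_iff _).2 hf
      refine ⟨(log (P₀.val f)).toNat, ?_⟩
      rw [hϖ, ← map_pow, ← map_mul]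
      apply hBmem
      rw [← ht.val_le_one_iff, map_mul, map_pow, hπ, ← exp_log hf0, ← exp_nsmul, ← exp_add,
        ← exp_zero, exp_le_exp, log_exp, smul_neg, nsmul_eq_mul, mul_one]
      omega
    | zero => exact ⟨0, by rw [mul_zero]; exact zero_mem _⟩
    | add y z _ _ hy hz =>
      obtain ⟨N₁, h₁⟩ := hy
      obtain ⟨N₂, h₂⟩ := hz
      refine ⟨N₁ + N₂, ?_⟩
      have : ϖ ^ (N₁ + N₂) * (y + z) = ϖ ^ N₂ * (ϖ ^ N₁ * y) + ϖ ^ N₁ * (ϖ ^ N₂ * z) := by ring
      rw [this]
      exact add_mem (mul_mem (pow_mem (hBmem _ hπO) _) h₁) (mul_mem (pow_mem (hBmem _ hπO) _) h₂)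
    | smul c y _ hy =>
      obtain ⟨N, hN⟩ := hy
      refine ⟨N, ?_⟩
      rw [mul_smul_comm]
      exact B.smul_mem hN c
  -- conclusion
  apply Place.ext
  ext y
  rw [← hM.val_le_one_iff P, ← hM.val_le_one_iff Q]
  by_cases hy : y = 0
  · simp [hy]
  obtain ⟨N, hN⟩ := claim6 y
  have hb0 : ϖ ^ N * y ≠ 0 := mul_ne_zero (pow_ne_zero _ hϖ0) hy
  have hv0 : P.val (ϖ ^ N * y) ≠ 0 := (Valuation.ne_zero_iff _).2 hb0
  obtain ⟨m, h1, h2⟩ := claim5 (-(log (P.val (ϖ ^ N * y)))).toNat _ hN (by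
    conv_rhs => rw [← exp_log hv0]
    rw [exp_le_exp]
    omega)
  rw [map_mul, map_pow] at h1 h2
  have hp0 : 0 < P.val ϖ := zero_lt_iff.2 ((Valuation.ne_zero_iff _).2 hϖ0)
  have hq0 : 0 < Q.val ϖ := zero_lt_iff.2 ((Valuation.ne_zero_iff _).2 hϖ0)
  have h3 : P.val y ≤ 1 ↔ N ≤ m := by
    rw [← pow_le_pow_iff_right_of_lt_one₀ hp0 hϖP, ← h1]
    constructor
    · intro h4
      exact mul_le_of_le_one_right' h4
    · intro h4
      exact (mul_le_iff_le_one_right (pow_pos hp0 N)).1 h4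
  have h4 : Q.val y ≤ 1 ↔ N ≤ m := by
    rw [← pow_le_pow_iff_right_of_lt_one₀ hq0 hϖQ, ← h2]
    constructor
    · intro h4
      exact mul_le_of_le_one_right' h4
    · intro h4
      exact (mul_le_iff_le_one_right (pow_pos hq0 N)).1 h4
  rw [h3, h4]

end Key

end Groth.Agent.MiscA.WCKbar2
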