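import Groth.Agent.Models.FFRR3
import Groth.Agent.MiscA.ZetaAbs
import Mathlib.FieldTheory.Finite.Basic
import Mathlib.FieldTheory.Finiteness
import Mathlib.RingTheory.Valuation.Integral
import Mathlib.RingTheory.Polynomial.DegreeLT

/-!
# Zeta function of an abstract curve `Crv` over a finite field
-/

set_option autoImplicit false

namespace Groth.Agent.MiscA.ZetaCrv

open Groth.Agent.Models.FFRR Groth.Agent.Models.FFRR.Crv WithZero

variable {k K X : Type*} [Field k] [Field K] [Algebra k K] (C : Crv k K X)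

theorem div_mul {f g : K} (hf : f ≠ 0) (hg : g ≠ 0) : C.div (f * g) = C.div f + C.div g := by
  ext P
  have h := C.v_eq_exp (mul_ne_zero hf hg) P
  rw [map_mul, C.v_eq_exp hf, C.v_eq_exp hg, ← exp_add, exp_inj] at h
  rw [Finsupp.add_apply]
  omega

theorem div_one : C.div (1 : K) = 0 := by
  ext P
  have h := C.v_eq_exp (one_ne_zero) P
  rw [map_one, ← exp_zero, exp_inj] at h
  rw [Finsupp.zero_apply]
  omega

theorem div_inv {f : K} (hf : f ≠ 0) : C.div f⁻¹ = - C.div f := by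
  have h := div_mul C hf (inv_ne_zero hf)
  rw [mul_inv_cancel₀ hf, div_one] at h
  exact (neg_eq_of_add_eq_zero_right h.symm).symm

theorem div_const {c : k} (hc : c ≠ 0) : C.div (algebraMap k K c) = 0 := by
  ext P
  have hc' : algebraMap k K c ≠ 0 := by simpa using hc
  have h := C.v_eq_exp hc' P
  rw [C.v_const_eq P hc, ← exp_zero, exp_inj] at h
  rw [Finsupp.zero_apply]
  omega

/-- principal divisors -/
noncomputable def prin : AddSubgroup (X →₀ ℤ) where
  carrier := {D | ∃ f : K, f ≠ 0 ∧ C.div f = D}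
  zero_mem' := ⟨1, one_ne_zero, div_one C⟩
  add_mem' := by
    rintro _ _ ⟨f, hf, rfl⟩ ⟨g, hg, rfl⟩
    exact ⟨f * g, mul_ne_zero hf hg, div_mul C hf hg⟩
  neg_mem' := by
    rintro _ ⟨f, hf, rfl⟩
    exact ⟨f⁻¹, inv_ne_zero hf, div_inv C hf⟩

theorem mem_prin {D : X →₀ ℤ} : D ∈ prin C ↔ ∃ f : K, f ≠ 0 ∧ C.div f = D := Iff.rfl

theorem degZ_eq (D : X →₀ ℤ) : ZetaAbs.degZ C.dg0 D = C.deg D := by
  unfold ZetaAbs.degZ Crv.deg
  rfl

variable {C}

/-- `L(0)` consists of constants. -/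
theorem exists_const_of_div_eq_zero [Nonempty X] (hC : C.Fin) (h1 : C.l 0 = 1) {f : K}
    (hf : f ≠ 0) (h : C.div f = 0) : ∃ c : k, c ≠ 0 ∧ algebraMap k K c = f := by
  have hfL : f ∈ C.L 0 := by
    rw [C.mem_L_iff hf, h, add_zero]
  have h1L : (1 : K) ∈ C.L 0 := by
    rw [C.mem_L_iff one_ne_zero, div_one, add_zero]
  have hr : Module.finrank k (C.L 0) = 1 := by rw [hC.finrank_L, h1]
  have hne : (⟨1, h1L⟩ : C.L 0) ≠ 0 := fun h => one_ne_zero (congrArg Subtype.val h)
  obtain ⟨c, hc⟩ := (finrank_eq_one_iff_of_nonzero' _ hne).mp hr ⟨f, hfL⟩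
  have hc' : algebraMap k K c = f := by
    have := congrArg Subtype.val hc
    rw [Algebra.algebraMap_eq_smul_one]
    exact this
  refine ⟨c, ?_, hc'⟩
  rintro rfl
  exact hf (by rw [← hc', map_zero])

/-- There is a function with a pole. -/
theorem exists_pole [Nonempty X] (hC : C.Fin) (h1 : C.l 0 = 1) :
    ∃ (f : K) (P : X), 1 < C.v P f := by
  classical
  obtain ⟨P₀⟩ := ‹Nonempty X›
  have : Nonempty X := ⟨P₀⟩
  let D : X →₀ ℤ := Finsupp.single P₀ (C.i 0 + 1 : ℤ)
  have hdeg : (C.i 0 : ℤ) + 1 ≤ C.deg D := by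
    rw [C.deg_single]
    have := hC.dg0_pos P₀
    nlinarith
  have hl : 2 ≤ C.l D := by
    have := hC.le_l h1 D
    omega
  have hD0 : (0 : X →₀ ℤ) ≤ D := by
    intro P
    rw [Finsupp.single_apply]
    split_ifs
    · simp only [Finsupp.coe_zero, Pi.zero_apply]; omega
    · exact le_rfl
  have hnot : ¬ C.L D ≤ C.L 0 := by
    intro hle
    have := hC.finite_L 0
    have h2 := Submodule.finrank_mono hle
    rw [hC.finrank_L, hC.finrank_L] at h2
    omega
  obtain ⟨f, -, hf⟩ := SetLike.not_le_iff_exists.mp hnot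
  rw [C.mem_L] at hf
  push Not at hf
  obtain ⟨P, hP⟩ := hf
  exact ⟨f, P, by simpa using hP⟩

theorem aeval_ne_zero_of_pole {f : K} {P : X} (hf : 1 < C.v P f) {h : Polynomial k} (hh : h ≠ 0) :
    Polynomial.aeval f h ≠ 0 := by
  intro h0
  have halg : IsAlgebraic k f := ⟨h, hh, h0⟩
  obtain ⟨p, hp, hpf⟩ := halg.isIntegral
  let ι : k →+* (C.v P).integer :=
    (algebraMap k K).codRestrict (C.v P).integer (fun c => C.v_const P c)
  have hint : IsIntegral (C.v P).integer f := by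
    refine ⟨p.map ι, hp.map ι, ?_⟩
    rw [Polynomial.eval₂_map]
    exact hpf
  have := Valuation.Integers.mem_of_integral (Valuation.integer.integers (C.v P)) hint
  exact absurd this (not_le.mpr hf)

theorem finite_zeros {f : K} (hf : f ≠ 0) : {P : X | C.v P f < 1}.Finite := by
  refine (C.finite_pole f⁻¹).subset ?_
  intro P hP
  rw [Set.mem_ofPred_eq] at hP ⊢
  rw [map_inv₀, not_le]
  exact (one_lt_inv₀ (zero_lt_iff.mpr ((Valuation.ne_zero_iff _).mpr hf))).mpr hP

/-- Over a finite field there are only finitely many places of a given degree. -/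
theorem finite_places [Finite k] [Nonempty X] (hC : C.Fin) (h1 : C.l 0 = 1) (d : ℕ) :
    Finite {P : X // C.dg0 P = d} := by
  obtain ⟨f, P₀, hf⟩ := exists_pole hC h1
  have hpf : Finite (Polynomial.degreeLT k (d + 1)) := by
    exact Module.finite_of_finite k
  have hfin : (⋃ h : {h : Polynomial.degreeLT k (d + 1) // h ≠ 0},
      {P : X | C.v P (Polynomial.aeval f (h.1 : Polynomial k)) < 1}).Finite := by
    refine Set.finite_iUnion fun h => finite_zeros (aeval_ne_zero_of_pole hf ?_)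
    exact fun h0 => h.2 (Subtype.ext h0)
  suffices H : {P : X | C.dg0 P = d}.Finite from Set.finite_coe_iff.mpr H
  refine ((C.finite_pole f).union hfin).subset ?_
  intro P hP
  rw [Set.mem_ofPred_eq] at hP
  by_cases hPf : C.v P f ≤ 1
  · right
    -- linear dependence of `1, f, …, f ^ d` modulo `P`
    have hmem : ∀ h : Polynomial k, Polynomial.aeval f h ∈ C.Fil P 0 := by
      intro h
      rw [C.mem_Fil, exp_zero, Polynomial.aeval_eq_sum_range]
      refine Valuation.map_sum_le _ fun i _ => ?_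
      rw [Algebra.smul_def, map_mul, map_pow]
      exact mul_le_one' (C.v_const P _) (pow_le_one' hPf _)
    let φ : Polynomial.degreeLT k (d + 1) →ₗ[k]
        (C.Fil P 0 ⧸ (C.Fil P (-1)).submoduleOf (C.Fil P 0)) :=
      (Submodule.mkQ _).comp (LinearMap.codRestrict (C.Fil P 0)
        ((Polynomial.aeval f).toLinearMap.comp (Submodule.subtype _)) (fun h => hmem h))
    have hlen : Module.length k (C.Fil P 0 ⧸ (C.Fil P (-1)).submoduleOf (C.Fil P 0)) ≠ ⊤ :=
      hC.finRes P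
    have hfinq : Module.Finite k (C.Fil P 0 ⧸ (C.Fil P (-1)).submoduleOf (C.Fil P 0)) := by
      rw [Module.length_ne_top_iff] at hlen
      have := ((isFiniteLength_iff_isNoetherian_isArtinian).mp hlen).1
      exact Module.IsNoetherian.finite k _
    have hrank : Module.finrank k (C.Fil P 0 ⧸ (C.Fil P (-1)).submoduleOf (C.Fil P 0)) = d := by
      rw [← hP]
      unfold Crv.dg0
      change _ = (Module.length k _).toNat
      rw [Module.length_eq_finrank]
      rfl
    have hker : LinearMap.ker φ ≠ ⊥ := by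
      apply LinearMap.ker_ne_bot_of_finrank_lt
      rw [hrank, (Polynomial.degreeLTEquiv k (d + 1)).finrank_eq, Module.finrank_fin_fun]
      exact Nat.lt_succ_self d
    obtain ⟨h, hh, hh0⟩ := (Submodule.ne_bot_iff _).mp hker
    rw [Set.mem_iUnion]
    refine ⟨⟨h, hh0⟩, ?_⟩
    rw [LinearMap.mem_ker] at hh
    change Submodule.Quotient.mk _ = 0 at hh
    rw [Submodule.Quotient.mk_eq_zero] at hh
    have h2 : C.v P (Polynomial.aeval f (h : Polynomial k)) ≤ exp (-1 : ℤ) := hh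
    refine lt_of_le_of_lt h2 ?_
    rw [← exp_zero, exp_lt_exp]
    norm_num
  · left
    exact hPf

theorem card_L [Nonempty X] (hC : C.Fin) (D : X →₀ ℤ) :
    Nat.card (C.L D) = Nat.card k ^ C.l D := by
  have := hC.finite_L D
  rw [Module.natCard_eq_pow_finrank (K := k), hC.finrank_L]

/-- `(q - 1) #{E ≥ 0, E ∼ D} + 1 = q ^ l(D)`. -/
theorem card_linearSystem [Finite k] [Nonempty X] (hC : C.Fin) (h1 : C.l 0 = 1) (D : X →₀ ℤ) :
    Nat.card {E : X →₀ ℤ // 0 ≤ E ∧ E - D ∈ prin C} * (Nat.card k - 1) + 1 =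
      Nat.card k ^ C.l D := by
  classical
  have hLfin : Finite (C.L D) := by
    have := hC.finite_L D
    exact Module.finite_of_finite k
  have hk : Fintype k := Fintype.ofFinite k
  -- the map `f ↦ D + div f`
  let φ : {f : C.L D // f ≠ 0} → {E : X →₀ ℤ // 0 ≤ E ∧ E - D ∈ prin C} := fun f =>
    ⟨D + C.div (f.1 : K), by
      have hf : (f.1 : K) ≠ 0 := fun h => f.2 (Subtype.ext h)
      refine ⟨(C.mem_L_iff hf D).mp f.1.2, ?_⟩
      rw [add_sub_cancel_left]
      exact ⟨f.1, hf, rfl⟩⟩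
  have hφ : Function.Surjective φ := by
    rintro ⟨E, hE, g, hg, hgE⟩
    have hgL : g ∈ C.L D := by
      rw [C.mem_L_iff hg, hgE, add_sub_cancel]
      exact hE
    refine ⟨⟨⟨g, hgL⟩, fun h => hg (congrArg Subtype.val h)⟩, ?_⟩
    apply Subtype.ext
    change D + C.div g = E
    rw [hgE, add_sub_cancel]
  have hEfin : Finite {E : X →₀ ℤ // 0 ≤ E ∧ E - D ∈ prin C} := Finite.of_surjective φ hφ
  have hEF : Fintype {E : X →₀ ℤ // 0 ≤ E ∧ E - D ∈ prin C} := Fintype.ofFinite _
  have hfib : ∀ E, Nat.card {f // φ f = E} = Nat.card k - 1 := by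
    intro E
    obtain ⟨f₀, hf₀⟩ := hφ E
    have hf₀0 : (f₀.1 : K) ≠ 0 := fun h => f₀.2 (Subtype.ext h)
    have hunits : Nat.card kˣ = Nat.card k - 1 := by
      rw [Nat.card_eq_fintype_card, Nat.card_eq_fintype_card, Fintype.card_units]
    rw [← hunits]
    symm
    refine Nat.card_congr (Equiv.ofBijective (fun c : kˣ =>
      (⟨⟨(c : k) • f₀.1, ?_⟩, ?_⟩ : {f // φ f = E})) ⟨?_, ?_⟩)
    · exact smul_ne_zero c.ne_zero f₀.2
    · rw [← hf₀]
      apply Subtype.ext
      change D + C.div ((c : k) • (f₀.1 : K)) = D + C.div (f₀.1 : K)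
      rw [Algebra.smul_def, div_mul C (by simp) hf₀0,
        div_const C c.ne_zero, zero_add]
    · intro c d hcd
      have h2 := congrArg (fun x => ((x.1.1 : C.L D) : K)) hcd
      change (c : k) • (f₀.1 : K) = (d : k) • (f₀.1 : K) at h2
      exact Units.ext (smul_left_injective k hf₀0 h2)
    · rintro ⟨f, hf⟩
      have hf0 : (f.1 : K) ≠ 0 := fun h => f.2 (Subtype.ext h)
      have h3 : C.div (f.1 : K) = C.div (f₀.1 : K) := by
        have h4 := congrArg Subtype.val (hf.trans hf₀.symm)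
        exact add_left_cancel h4
      obtain ⟨c, hc, hcf⟩ := exists_const_of_div_eq_zero hC h1
        (f := (f.1 : K) * (f₀.1 : K)⁻¹) (mul_ne_zero hf0 (inv_ne_zero hf₀0)) (by
          rw [div_mul C hf0 (inv_ne_zero hf₀0), div_inv C hf₀0, h3, add_neg_cancel])
      refine ⟨Units.mk0 c hc, ?_⟩
      apply Subtype.ext
      apply Subtype.ext
      apply Subtype.ext
      change c • (f₀.1 : K) = f.1
      rw [Algebra.smul_def, hcf, mul_assoc, inv_mul_cancel₀ hf₀0, mul_one]
  have h2 : Nat.card {f : C.L D // f ≠ 0} =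
      Nat.card {E : X →₀ ℤ // 0 ≤ E ∧ E - D ∈ prin C} * (Nat.card k - 1) := by
    rw [← Nat.card_congr (Equiv.sigmaFiberEquiv φ), Nat.card_sigma,
      Finset.sum_congr rfl fun E _ => hfib E, Finset.sum_const, smul_eq_mul,
      Nat.card_eq_fintype_card (α := {E : X →₀ ℤ // 0 ≤ E ∧ E - D ∈ prin C})]
    rfl
  rw [← h2, ← card_L hC D]
  have hLF : Fintype (C.L D) := Fintype.ofFinite _
  rw [Nat.card_eq_fintype_card, Nat.card_eq_fintype_card, Fintype.card_subtype_compl,
    Fintype.card_subtype_eq]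
  exact Nat.sub_add_cancel Fintype.card_pos

/-- **Weil conjectures for an abstract curve over a finite field**, given the growth bound. -/
theorem exists_alphas [Finite k] [Nonempty X] (hC : C.Fin) (h1 : C.l 0 = 1) (c : ℝ)
    (hc : ∀ n : ℕ, 1 ≤ n → |(ZetaAbsCount.N C.dg0 n : ℝ) - (Nat.card k : ℝ) ^ n| ≤
      c * Real.sqrt (Nat.card k) ^ n) :
    ∃ α : _root_.Fin (2 * C.i 0) → ℂ, (∀ i, IsIntegral ℤ (α i)) ∧ (∀ i, ‖α i‖ ^ 2 = Nat.card k) ∧
      (∃ σ : Equiv.Perm (_root_.Fin (2 * C.i 0)), ∀ i, α (σ i) * α i = Nat.card k) ∧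
      ∀ n : ℕ, 1 ≤ n → (ZetaAbsCount.N C.dg0 n : ℂ) =
        (Nat.card k : ℂ) ^ n + 1 - ∑ i, α i ^ n := by
  obtain ⟨W, hW, hlW, -, -⟩ := hC.riemann_roch h1
  have hq : 2 ≤ Nat.card k := Finite.one_lt_card
  refine ZetaAbs.exists_alphas C.dg0 hC.dg0_pos (finite_places hC h1) (Nat.card k) (C.i 0) hq (prin C) ?_ C.l
    (card_linearSystem hC h1) ?_ ?_ W ?_ hlW.ge c hc
  · rintro _ ⟨f, hf, rfl⟩
    rw [degZ_eq]
    exact hC.deg_div hf
  · intro D
    rw [degZ_eq]
    exact hC.le_l h1 D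
  · intro D hD
    rw [degZ_eq] at hD ⊢
    exact hC.l_eq h1 hD
  · rw [degZ_eq, hW]

end Groth.Agent.MiscA.ZetaCrv
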