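import Groth.Agent.MiscA.WCPlaceRes
import Groth.Agent.MiscA.ZetaCrv

/-!
# Weil conjectures for function fields, from the growth bound
-/

set_option autoImplicit false

namespace Groth.Agent.MiscA.WCMain

open Groth.Agent.MiscA.WCPlace Groth.Agent.MiscA.WCPlaceCrv Groth.Agent.MiscA.WCPlaceRes
  Groth.Agent.Models.FFRR

universe u v

/-- Weil conjectures for a function field in one variable over a finite field, from the growth bound for the
numbers of rational points. -/
theorem exists_alphas {k : Type u} {K : Type v} [Field k] [Field K] [Algebra k K] [Finite k]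
    (h : ∃ t : K, IsSep k K t) (hk : ∀ x : K, IsAlgebraic k x → x ∈ (algebraMap k K).range)
    (hc : ∃ c : ℝ, ∀ n : ℕ, 1 ≤ n → |(ZetaAbsCount.N (crv h).dg0 n : ℝ) - (Nat.card k : ℝ) ^ n| ≤
      c * Real.sqrt (Nat.card k) ^ n) (g : ℕ) (hg : Nat.card k ^ g = Nat.card k ^ (crv h).i 0) :
    ∃ α : Fin (2 * g) → ℂ, (∀ i, IsIntegral ℤ (α i)) ∧ (∀ i, ‖α i‖ ^ 2 = Nat.card k) ∧
      (∃ σ : Equiv.Perm (Fin (2 * g)), ∀ i, α (σ i) * α i = Nat.card k) ∧
      ∀ n : ℕ, 1 ≤ n → (ZetaAbsCount.N (crv h).dg0 n : ℂ) =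
        (Nat.card k : ℂ) ^ n + 1 - ∑ i, α i ^ n := by
  have hg' : g = (crv h).i 0 := Nat.pow_right_injective (Finite.one_lt_card (α := k)) hg
  subst hg'
  have := nonempty_place h
  obtain ⟨c, hc⟩ := hc
  exact ZetaCrv.exists_alphas (crv_fin h) (l_zero_eq_one h hk) c hc

end Groth.Agent.MiscA.WCMain
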